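import Mathlib
import Cfsg.Agent.LX.Defs
import Cfsg.Agent.GT.Zipper
import Cfsg.Agent.Sym.PPair

/-! No involution of `A₈` or `A₉` is weakly closed in the 2-core of its centraliser. -/

set_option autoImplicit false

namespace Cfsg.Agent.Wk

open Cfsg.Agent.LX Subgroup Equiv Equiv.Perm

namespace Alt

variable {α : Type*} [Fintype α] [DecidableEq α] {z g : Perm α}

/-- An even conjugate of `z` inverts no element of odd order of the centraliser of `z`. -/
def Good (z : Perm α) : Prop := ∃ c : Perm α, sign c = 1 ∧ c * z * c⁻¹ ≠ z ∧ Commute z (c * z * c⁻¹) ∧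
  ∀ g, Commute z g → (c * z * c⁻¹ * (g * (c * z * c⁻¹) * g⁻¹)) ^ 4 = 1

theorem Good.of_isConj {y : Perm α} (h : Good z) (hk : IsConj z y) : Good y := by
  obtain ⟨k, rfl⟩ := isConj_iff.1 hk
  obtain ⟨c, h1, h2, h3, h4⟩ := h
  have e : k * c * k⁻¹ * (k * z * k⁻¹) * (k * c * k⁻¹)⁻¹ = k * (c * z * c⁻¹) * k⁻¹ := by group
  refine ⟨k * c * k⁻¹, by simp [h1], by simpa only [e, ne_eq, mul_left_inj, mul_right_inj] using h2,
    e ▸ h3.conj k, fun g hg => ?_⟩
  have := congrArg (MulAut.conj k) (h4 (k⁻¹ * g * k) (by simpa [mul_assoc] using hg.conj k⁻¹))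
  rw [map_pow, map_one] at this
  rw [← this, e, MulAut.conj_apply]
  congr 1
  group

/-- The double transposition interchanging two cycles of `z`. -/
def dt (z : Perm α) (a b : α) : Perm α := swap a b * swap (z a) (z b)

omit [Fintype α] in
theorem dt_conj (h : Commute z g) (a b : α) : g * dt z a b * g⁻¹ = dt z (g a) (g b) := by
  rw [dt, dt, ← mul_apply z, ← mul_apply z, h.eq, mul_apply, mul_apply, swap_apply_apply g,
    swap_apply_apply g, conj_mul]

/-- The points lie in different cycles of length two. -/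
def Sep (z : Perm α) (a b : α) : Prop := z b ≠ b ∧ a ≠ b ∧ z a ≠ b

instance (a b : α) : Decidable (Sep z a b) := by unfold Sep; infer_instance

omit [Fintype α] [DecidableEq α] in
theorem Sep.map (h : Commute z g) {a b : α} (k : Sep z a b) : Sep z (g a) (g b) := by
  simpa only [Sep, ← mul_apply z, h.eq, mul_apply g, ne_eq, EmbeddingLike.apply_eq_iff_eq] using k

theorem good2 (z c : Perm α) (p q : α) (h : sign c = 1 ∧ c * z * c⁻¹ = dt z p q ∧ dt z p q ≠ z ∧
    z * dt z p q = dt z p q * z ∧ Sep z p q ∧ Sep z q p)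
    (H : ∀ a b, Sep z a b → Sep z b a → (dt z p q * dt z a b) ^ 4 = 1) : Good z := by
  obtain ⟨h1, h2, h3, h4, h5, h6⟩ := h
  refine ⟨c, h1, h2 ▸ h3, h2 ▸ h4, fun g hg => ?_⟩
  rw [h2, dt_conj hg]
  exact H _ _ (h5.map hg) (h6.map hg)

theorem good4 (z c w : Perm α) (p q r s : α) (h : sign c = 1 ∧ c * z * c⁻¹ = w ∧ w = dt z p q * dt z r s ∧
    w ≠ z ∧ z * w = w * z ∧ Sep z p q ∧ Sep z q p ∧ Sep z p r ∧ Sep z q r ∧ Sep z p s ∧ Sep z q s ∧ Sep z r s)
    (H : ∀ a b, Sep z a b → Sep z b a → ∀ c, Sep z a c → Sep z b c → ∀ d, Sep z a d → Sep z b d → Sep z c d →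
      ∀ u, u = w * (dt z a b * dt z c d) → ∀ x, u (u (u (u x))) = x) : Good z := by
  obtain ⟨h1, h2, e, h3, h4, h5, h6, h7, h8, h9, h10, h11⟩ := h
  refine ⟨c, h1, h2 ▸ h3, h2 ▸ h4, fun g hg => Equiv.ext fun x => ?_⟩
  have := H _ _ (h5.map hg) (h6.map hg) _ (h7.map hg) (h8.map hg) _ (h9.map hg) (h10.map hg) (h11.map hg) _ rfl x
  rw [← dt_conj hg, ← dt_conj hg, conj_mul, ← e] at this
  rw [h2]
  exact this

theorem good {n : ℕ} (hn : n = 8 ∨ n = 9) {z : Perm (Fin n)} (h2 : orderOf z = 2) (hs : sign z = 1) :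
    Good z := by
  have k : z.support.card = 4 ∨ z.support.card = 8 := by
    obtain ⟨m, hm⟩ := cycleType_prime_order (σ := z) (h2 ▸ Nat.prime_two)
    have h1 := sum_cycleType_le z
    rw [sign_of_cycleType] at hs
    rw [← sum_cycleType]
    rw [hm, h2] at h1 hs ⊢
    simp only [Multiset.sum_replicate, smul_eq_mul, Fintype.card_fin, Multiset.card_replicate] at h1 hs ⊢
    have : m ≤ 3 := by omega
    interval_cases m <;> first | omega | exact absurd hs (by decide)
  have t := fun y a => Sym.isConj_of_pow_prime (a := y) Nat.prime_two a (h2 ▸ pow_orderOf_eq_one z)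
  rcases hn with rfl | rfl
  all_goals
    rcases k with k | k
    · exact (good2 (swap 0 1 * swap 2 3) (swap 1 2 * swap 0 1) 0 2 (by decide +kernel)
        (by decide +kernel)).of_isConj (t _ (by decide +kernel) (by rw [k]; decide +kernel))
    · exact (good4 (swap 0 1 * swap 2 3 * (swap 4 5 * swap 6 7)) (swap 1 2 * swap 5 6)
        (swap 0 2 * swap 1 3 * (swap 4 6 * swap 5 7)) 0 2 4 6 (by decide +kernel)
        (by simp only [forall_eq]; decide +kernel)).of_isConj (t _ (by decide +kernel) (by rw [k]; decide +kernel))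

end Alt

theorem not_wc_of_alt {G : Type*} [Group G] [Finite G] {L : Subgroup G} [L.Normal] {z : G} (hz : z ∈ L)
    (h2 : orderOf z = 2) {n : ℕ} (hn : n = 8 ∨ n = 9) (e : L ≃* alternatingGroup (Fin n)) : ¬ WC z := by
  intro wc
  let φ : L →* Perm (Fin n) := (alternatingGroup _).subtype.comp e.toMonoidHom
  have inj : Function.Injective φ := (subtype_injective _).comp e.injective
  obtain ⟨c, h1, h3, h4, h5⟩ := Alt.good hn (z := φ ⟨z, hz⟩)
    (by rw [orderOf_injective φ inj, ← h2, ← orderOf_coe]) (e _).2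
  obtain ⟨c, rfl⟩ : ∃ l, φ l = c := ⟨e.symm ⟨c, h1⟩, by simp [φ]⟩
  simp only [← map_inv, ← map_mul] at h3 h4 h5
  have zz : z * z = 1 := by rw [← pow_two, ← h2, pow_orderOf_eq_one]
  let w : centralizer ({z} : Set G) := ⟨c * z * (c : G)⁻¹, mem_centralizer_singleton_iff.2
    (congrArg Subtype.val (inj (by simpa only [map_mul] using h4.eq) :
      (⟨z, hz⟩ * (c * ⟨z, hz⟩ * c⁻¹) : L) = c * ⟨z, hz⟩ * c⁻¹ * ⟨z, hz⟩)).symm⟩
  have ww : w * w = 1 := Subtype.ext (by simp [w, zz])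
  refine h3 (congrArg φ (Subtype.ext (wc w (isConj_iff.2 ⟨c, rfl⟩) ⟨w, not_not.1 fun k => ?_, rfl⟩)))
  obtain ⟨h, k1, k2, k3⟩ := GT.exists_odd_inverted_of_not_mem_pCore ww k
  have wL : (w : G) ∈ L := (c * ⟨z, hz⟩ * c⁻¹ : L).2
  have e1 : w * (h * w * h⁻¹) = (h ^ 2)⁻¹ := by
    rw [← mul_assoc, ← mul_assoc, ← inv_eq_of_mul_eq_one_right ww, inv_eq_of_mul_eq_one_right ww,
      show w * h * w = h⁻¹ by rw [← k3, inv_eq_of_mul_eq_one_right ww]]
    group
  have hL : (h : G) ∈ L := by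
    have : ((h ^ 2 : centralizer ({z} : Set G)) : G) ∈ L := by
      rw [← inv_mem_iff, ← Subgroup.coe_inv, ← e1]
      exact mul_mem wL (Normal.conj_mem inferInstance _ wL _)
    obtain ⟨m, hm⟩ := k2.add_one
    have := pow_mem this m
    rwa [← Subgroup.coe_pow, ← pow_mul, two_mul, ← hm, pow_succ, pow_orderOf_eq_one, one_mul] at this
  have := h5 (φ ⟨h, hL⟩) (Commute.map (Subtype.ext (mem_centralizer_singleton_iff.1 h.2).symm) φ)
  simp only [← map_inv, ← map_mul, ← map_pow, map_eq_one_iff φ inj] at this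
  have e2 : ((h ^ 2)⁻¹) ^ 4 = 1 := e1 ▸ Subtype.ext (congrArg L.subtype this)
  rw [inv_pow, inv_eq_one, ← pow_mul] at e2
  exact k1 (orderOf_eq_one_iff.1 (Nat.Coprime.eq_one_of_dvd
    ((Nat.coprime_two_right.2 k2).pow_right 3) (orderOf_dvd_of_pow_eq_one e2)))

end Cfsg.Agent.Wk
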