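import Mathlib
import Cfsg.Agent.Spor.FRepIso

/-! Involutions satisfying Clifford relations: recognition of `Sp₆(2)` on its spin module. -/

set_option autoImplicit false

namespace Cfsg.Agent.Wk

open Cfsg.Agent.Spor.TT Subgroup

variable {H : Type*} [Group H] {V : Type*} [AddCommGroup V] [Module (ZMod 2) V]

/-- The hypotheses on the representation. -/
structure Cf (ρ : H →* Module.End (ZMod 2) V) (N : H → Module.End (ZMod 2) V) (D : Set H) (a a' : H) (B : Subgroup H) :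
    Prop where
  inj : Function.Injective ρ
  hN : ∀ g, N g = ρ g + 1
  hD : ∀ g, ∀ d ∈ D, cj g d ∈ D
  sq : ∀ d ∈ D, d * d = 1
  ne : ∀ d ∈ D, d ≠ 1
  ac : ∀ c ∈ D, ∀ d ∈ D, N c * N d + N d * N c = 0 ∨ N c * N d + N d * N c = 1
  ha : a ∈ D
  ha' : a' ∈ D
  haa : N a * N a' + N a' * N a = 1
  haB : a ∈ B
  h1 : ∀ b ∈ B, N b * N a = 0
  h2 : ∀ b ∈ B, N a * N b = 0
  hl : ∀ v, ∃ s ∈ B, ∃ s' ∈ B, (∃ w, N s w = N a v) ∧ (∃ w, N s' w = N a v) ∧
    ∀ w w', N s w = N s' w' → N s w = 0 ∨ N s w = N a v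

theorem two_end (x : Module.End (ZMod 2) V) : x + x = 0 := by
  rw [← two_smul (ZMod 2), show (2 : ZMod 2) = 0 from rfl, zero_smul]

theorem add_eq_zero_end {x y : Module.End (ZMod 2) V} : x + y = 0 ↔ x = y := by
  rw [add_eq_zero_iff_eq_neg, neg_eq_of_add_eq_zero_left (two_end y)]

theorem two_vec {ι : Type*} (x : ι → ZMod 2) : x + x = 0 := funext fun i => CharTwo.add_self_eq_zero (x i)

theorem z2 : ∀ c : ZMod 2, c = 0 ∨ c = 1 := by decide

namespace Cf

variable {ρ : H →* Module.End (ZMod 2) V} {N : H → Module.End (ZMod 2) V} {D : Set H} {a a' : H} {B : Subgroup H}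
  (h : Cf ρ N D a a' B) {b b' c d : H}
include h

theorem rho (g : H) : ρ g = N g + 1 := by rw [h.hN, add_assoc, two_end, add_zero]

theorem N_inj (e : N c = N d) : c = d := h.inj (by rw [h.rho, h.rho, e])

theorem N_one : N 1 = 0 := by rw [h.hN, map_one, two_end]

theorem N_mul (c d : H) : N (c * d) = N c * N d + N c + N d := by
  rw [h.hN (c * d), map_mul, h.rho, h.rho]
  linear_combination (norm := noncomm_ring) two_end (1 : Module.End (ZMod 2) V)

theorem n2 (hd : d ∈ D) : N d * N d = 0 := by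
  rw [← h.N_one, ← h.sq d hd, h.N_mul, add_assoc, two_end, add_zero]

theorem comm_iff : Commute c d ↔ N c * N d + N d * N c = 0 := by
  rw [add_eq_zero_end]
  refine ⟨fun e => ?_, fun e => h.N_inj (by rw [h.N_mul, h.N_mul, e, add_right_comm])⟩
  have := congrArg N e.eq
  rwa [h.N_mul, h.N_mul, add_right_comm, add_left_inj, add_left_inj] at this

theorem nbf (hc : c ∈ D) (hd : d ∈ D) : N c * N d + N d * N c = nb c d • (1 : Module.End (ZMod 2) V) := by
  by_cases e : Commute c d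
  · rw [nb_of_commute e, zero_smul, h.comm_iff.1 e]
  · rw [nb_of_not e, one_smul]; exact (h.ac c hc d hd).resolve_left (mt h.comm_iff.2 e)

theorem N_cj (e : b * b = 1) (d : H) : N (cj b d) = N d + N b * N d + N d * N b + N b * N d * N b := by
  have h1 : N b * N b = 0 := by rw [← h.N_one, ← e, h.N_mul, add_assoc, two_end, add_zero]
  rw [cj, inv_eq_of_mul_eq_one_right e, h.N_mul, h.N_mul, add_mul, add_mul, h1]
  linear_combination (norm := noncomm_ring) two_end (N b)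

theorem N_cj' (hc : c ∈ D) (hd : d ∈ D) (e : ¬ Commute c d) : N (cj c d) = N c + N d + 1 := by
  have h1 := (h.ac c hc d hd).resolve_left (mt h.comm_iff.2 e)
  have h2 : N c * N d * N c = N c := by
    rw [mul_assoc, eq_sub_of_add_eq' h1, mul_sub, ← mul_assoc, h.n2 hc, zero_mul, sub_zero, mul_one]
  rw [h.N_cj (h.sq c hc), h2, ← h1]
  abel

theorem tt : IsTT D := by
  refine ⟨⟨fun d hd => orderOf_eq_prime ((pow_two d).trans (h.sq d hd)) (h.ne d hd), fun c hc d hd => ?_⟩,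
    fun c _ => h.hD c⟩
  by_cases e : Commute c d
  · exact Or.inl (by rw [e.mul_pow, pow_two, pow_two, h.sq c hc, h.sq d hd, one_mul])
  have h1 : cj c d = cj d c := h.N_inj (by rw [h.N_cj' hc hd e, h.N_cj' hd hc fun k => e k.symm, add_comm (N c)])
  rw [cj, cj, inv_eq_of_mul_eq_one_right (h.sq c hc), inv_eq_of_mul_eq_one_right (h.sq d hd)] at h1
  refine Or.inr ?_
  calc _ = c * d * c * (d * c * d) := by simp only [pow_succ, pow_zero, one_mul, mul_assoc]
    _ = d * (c * (d * d) * c) * d := by rw [h1]; simp only [mul_assoc]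
    _ = 1 := by rw [h.sq d hd, mul_one, h.sq c hc, mul_one, h.sq d hd]

theorem sympT : SympT D := fun x hx y hy w hw e1 e2 e3 => h.comm_iff.2 (by
  rw [h.N_cj' hx hy e1]
  linear_combination (norm := noncomm_ring) (h.ac w hw x hx).resolve_left (mt h.comm_iff.2 e2) +
    (h.ac w hw y hy).resolve_left (mt h.comm_iff.2 e3) + two_end (N w) + two_end (1 : Module.End (ZMod 2) V))

theorem bb (hb : b ∈ B) (hb' : b' ∈ B) : N b * N b' = 0 := by
  rw [← one_mul (N b'), ← h.haa, add_mul, mul_assoc (N a'), h.h2 b' hb', mul_zero, add_zero, mul_assoc, ← mul_assoc,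
    h.h1 b hb, zero_mul]

theorem N_mulB (hb : b ∈ B) (hb' : b' ∈ B) : N (b * b') = N b + N b' := by rw [h.N_mul, h.bb hb hb', zero_add]

theorem sqB (hb : b ∈ B) : b * b = 1 := h.N_inj (by rw [h.N_mulB hb hb, two_end, h.N_one])

theorem N_eq (hb : b ∈ B) : N b = N a * (N (cj b a') + N a') := by
  have h1 := h.h2 b hb
  rw [h.N_cj (h.sqB hb), add_right_comm, add_right_comm _ _ (N a'), add_right_comm (N a'), two_end, zero_add, mul_add,
    mul_add, mul_assoc (N b), ← mul_assoc, ← mul_assoc, ← mul_assoc (N a), h1, eq_sub_of_add_eq h.haa, sub_mul,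
    mul_assoc (N a'), h1]
  simp

/-- An endomorphism commuting with `a` and the conjugates of `a'` under `B` is a scalar. -/
theorem scal {γ : Module.End (ZMod 2) V} (e1 : Commute γ (N a)) (e2 : ∀ b ∈ B, Commute γ (N (cj b a'))) :
    γ = 0 ∨ γ = 1 := by
  have e3 : Commute γ (N a') := cj_one a' ▸ e2 1 B.one_mem
  have e4 : ∀ b ∈ B, ∀ w, γ (N b w) = N b (γ w) := fun b hb w => by
    rw [h.N_eq hb]; exact LinearMap.congr_fun (e1.mul_right ((e2 b hb).add_right e3)).eq w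
  have e5 : ∀ v, γ (N a v) = 0 ∨ γ (N a v) = N a v := fun v => by
    obtain ⟨s, hs, s', hs', ⟨w, k1⟩, ⟨w', k2⟩, k3⟩ := h.hl v
    have := k3 (γ w) (γ w') (by rw [← e4 s hs, ← e4 s' hs', k1, k2])
    rwa [← e4 s hs, k1] at this
  have e6 : γ = γ * N a * N a' + N a' * (γ * N a) := by
    rw [← mul_assoc, ← e3.eq, mul_assoc, mul_assoc, ← mul_add, h.haa, mul_one]
  by_cases e7 : γ * N a = 0
  · exact Or.inl (by rw [e6, e7, zero_mul, mul_zero, add_zero])
  obtain ⟨v, hv⟩ : ∃ v, γ (N a v) ≠ 0 := by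
    by_contra! k
    exact e7 (LinearMap.ext k)
  have e8 : γ * N a = N a := LinearMap.ext fun w => (e5 w).elim (fun k => by
    have := e5 (v + w)
    rw [map_add, map_add, k, add_zero, (e5 v).resolve_left hv, left_eq_add] at this
    exact k.trans (this.resolve_left ((e5 v).resolve_left hv ▸ hv)).symm) id
  exact Or.inr (by rw [e6, e8, h.haa])

variable [Nontrivial V]

theorem eq_one {g : H} (e : ∀ d ∈ D, Commute g d) : g = 1 := by
  refine (h.scal (add_eq_zero_end.1 (h.comm_iff.1 (e a h.ha))) fun b _ =>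
    add_eq_zero_end.1 (h.comm_iff.1 (e _ (h.hD b _ h.ha')))).elim (fun k => h.N_inj (k.trans h.N_one.symm)) fun k => ?_
  have := map_mul ρ g g⁻¹
  rw [mul_inv_cancel, map_one, h.rho g, k, two_end, zero_mul] at this
  exact absurd this one_ne_zero

theorem naa (hb : b ∈ B) : ¬ Commute a (cj b a') := by
  rw [commute_cj_right_of (h.comm_iff.2 (by rw [h.h1 b hb, h.h2 b hb, add_zero])), h.comm_iff, h.haa]
  exact one_ne_zero

variable {m : ℕ} {r : H → Fin m ⊕ Fin m → ZMod 2} (hr : SpEmb D m r) {u u' : Fin m ⊕ Fin m → ZMod 2}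
include hr

omit [Nontrivial V] in
theorem exists_gam (u : Fin m ⊕ Fin m → ZMod 2) : ∃ γ : Module.End (ZMod 2) V,
    ∀ d ∈ D, γ * N d + N d * γ = Cl.spB m (ZMod 2) u (r d) • 1 := by
  induction (hr.span.ge Submodule.mem_top : u ∈ _) using Submodule.span_induction with
  | mem x hx => obtain ⟨c, hc, rfl⟩ := hx; exact ⟨N c, fun d hd => by rw [hr.form c hc d hd, h.nbf hc hd]⟩
  | zero => exact ⟨0, by simp⟩
  | add x y _ _ hx hy =>
    obtain ⟨γ, hx⟩ := hx
    obtain ⟨δ, hy⟩ := hy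
    exact ⟨γ + δ, fun d hd => by rw [map_add, LinearMap.add_apply, add_smul, ← hx d hd, ← hy d hd]; noncomm_ring⟩
  | smul c x _ hx => rcases z2 c with rfl | rfl <;> [exact ⟨0, by simp⟩; rwa [one_smul]]

omit h hr in
theorem smul_inj {c c' : ZMod 2} (e : c • (1 : Module.End (ZMod 2) V) = c' • 1) : c = c' :=
  smul_left_injective (ZMod 2) one_ne_zero e

theorem eq_zero (e1 : Cl.spB m (ZMod 2) u (r a) = 0) (e2 : ∀ b ∈ B, Cl.spB m (ZMod 2) u (r (cj b a')) = 0) : u = 0 := by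
  obtain ⟨γ, hγ⟩ := h.exists_gam hr u
  refine hr.ext fun d hd => smul_inj (V := V) ?_
  rw [← hγ d hd]
  rcases h.scal (γ := γ) (add_eq_zero_end.1 (by rw [hγ a h.ha, e1, zero_smul])) (fun b hb => add_eq_zero_end.1 (by
    rw [hγ _ (h.hD b _ h.ha'), e2 b hb, zero_smul])) with rfl | rfl <;> simp [two_end]

omit [Nontrivial V] in
theorem gam (hc : c ∈ D) (hd : d ∈ D) : N c * N d + N d * N c = Cl.spB m (ZMod 2) (r c) (r d) • 1 := by
  rw [hr.form c hc d hd, h.nbf hc hd]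

theorem injOn : Set.InjOn r D := fun c hc d hd e => by
  have k : ∀ x ∈ D, Commute (N c + N d) (N x) := fun x hx => add_eq_zero_end.1 (by
    linear_combination (norm := noncomm_ring) (h.gam hr hc hx).trans (e ▸ (h.gam hr hd hx).symm) +
      two_end (N d * N x + N x * N d))
  refine (h.scal (k a h.ha) fun b _ => k _ (h.hD b _ h.ha')).elim (fun k => h.N_inj (add_eq_zero_end.1 k)) fun k1 => ?_
  have := h.n2 hc
  rw [eq_sub_of_add_eq k1, sub_mul, mul_sub, mul_sub, h.n2 hd] at this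
  simp [sub_sub, two_end] at this

theorem r_ne (hd : d ∈ D) : r d ≠ 0 := fun e => h.ne d hd (h.eq_one fun x hx => (hr.form_eq_zero hd hx).1 (by simp [e]))

theorem ra (hb : b ∈ B) : Cl.spB m (ZMod 2) (r (cj b a')) (r a) = 1 := by
  rw [hr.form _ (h.hD b _ h.ha') a h.ha, nb_comm, nb_of_not (h.naa hb)]

theorem closed (hb : b ∈ B) (hb' : b' ∈ B) : ∃ b'' ∈ B, r (cj b a') + r (cj b' a') = r (cj b'' a') + r a' := by
  have hm := fun b => h.hD b _ h.ha'
  obtain ⟨γ, hγ⟩ : ∃ γ, γ = N (cj (b * b') a') + N (cj b a') + N (cj b' a') + N a' := ⟨_, rfl⟩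
  obtain ⟨u, hu⟩ : ∃ u, u = r (cj (b * b') a') + r (cj b a') + r (cj b' a') + r a' := ⟨_, rfl⟩
  have e1 : ∀ d ∈ D, γ * N d + N d * γ = Cl.spB m (ZMod 2) u (r d) • 1 := fun d hd => by
    simp only [hγ, hu, map_add, LinearMap.add_apply, add_smul, ← h.gam hr (hm _) hd, ← h.gam hr h.ha' hd]
    noncomm_ring
  have e2 : γ * N a = 0 := by
    have k := h.gam hr h.ha' h.ha
    simp only [hγ, h.N_cj (h.sqB hb), h.N_cj (h.sqB hb'), h.N_cj (h.sqB (mul_mem hb hb')), h.N_mulB hb hb', add_mul,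
      mul_add, mul_assoc, h.h1 b hb, h.h1 b' hb', mul_zero, add_zero]
    linear_combination (norm := abel1) two_end (N a' * N a) + two_end (N a' * N a) +
      two_end (N b * (N a' * N a)) + two_end (N b' * (N a' * N a))
  have e3 : γ = Cl.spB m (ZMod 2) u (r a') • N a := by
    rw [← smul_one_mul, ← e1 a' h.ha', add_mul, mul_assoc (N a'), e2, mul_assoc, eq_sub_of_add_eq' h.haa, mul_sub,
      ← mul_assoc, e2]
    simp
  have e4 : u = Cl.spB m (ZMod 2) u (r a') • r a := hr.ext fun d hd => smul_inj (V := V) (by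
    rw [← e1 d hd, map_smul, LinearMap.smul_apply, smul_eq_mul, mul_smul, ← h.gam hr h.ha hd, smul_add, ← smul_mul_assoc,
      ← mul_smul_comm, ← e3])
  have t : ∀ x : Fin m ⊕ Fin m → ZMod 2, x + x = 0 := two_vec
  rcases z2 (Cl.spB m (ZMod 2) u (r a')) with k | k <;> rw [k, hu] at e4
  · exact ⟨_, mul_mem hb hb', by linear_combination (norm := module) e4 - t (r (cj (b * b') a')) - t (r a')⟩
  · refine ⟨_, mul_mem h.haB (mul_mem hb hb'), ?_⟩
    rw [← cj_cj, hr.map_cj_of_not h.sympT h.tt h.ha (hm _) (h.naa (mul_mem hb hb'))]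
    linear_combination (norm := module) e4 - t (r (cj (b * b') a')) - t (r a')

theorem surj (u : Fin m ⊕ Fin m → ZMod 2) : ∃ b ∈ B, ∃ e : ZMod 2, u = r (cj b a') + e • r a' := by
  have t : ∀ x : Fin m ⊕ Fin m → ZMod 2, x + x = 0 := two_vec
  have z : ∃ b ∈ B, ∃ e : ZMod 2, 0 = r (cj b a') + e • r a' := ⟨1, B.one_mem, 1, by rw [cj_one, one_smul, t]⟩
  let U : Submodule (ZMod 2) (Fin m ⊕ Fin m → ZMod 2) :=
    ⟨⟨⟨{u | ∃ b ∈ B, ∃ e : ZMod 2, u = r (cj b a') + e • r a'}, by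
      rintro _ _ ⟨b, hb, e, rfl⟩ ⟨b', hb', e', rfl⟩
      obtain ⟨c, hc, k⟩ := h.closed hr hb hb'
      exact ⟨c, hc, 1 + e + e', by linear_combination (norm := module) k⟩⟩, z⟩, fun c x hx => by
        rcases z2 c with rfl | rfl <;> [rwa [zero_smul]; rwa [one_smul]]⟩
  have k : (Cl.spB m (ZMod 2)).orthogonal U = ⊥ := eq_bot_iff.2 fun x hx => h.eq_zero hr
    (Cl.spB_isAlt.isRefl _ _ (hx _ ⟨a, h.haB, 1, by
      rw [hr.map_cj_of_not h.sympT h.tt h.ha h.ha' (cj_one a' ▸ h.naa B.one_mem), one_smul, add_assoc, t, add_zero]⟩))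
    fun b hb => Cl.spB_isAlt.isRefl _ _ (hx _ ⟨b, hb, 0, by simp⟩)
  have := LinearMap.BilinForm.orthogonal_orthogonal Cl.spB_nondegenerate Cl.spB_isAlt.isRefl U
  rw [k, LinearMap.BilinForm.orthogonal_bot] at this
  exact this.le Submodule.mem_top

theorem coef (hb : b ∈ B) (e : ZMod 2) : Cl.spB m (ZMod 2) (r (cj b a') + e • r a') (r a) = 1 + e := by
  rw [map_add, map_smul, LinearMap.add_apply, LinearMap.smul_apply, h.ra hr hb, ← cj_one a', h.ra hr B.one_mem,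
    smul_eq_mul, mul_one]

theorem three (hB : Nat.card B = 32) : m = 3 := by
  have := Nat.card_eq_of_bijective (fun x : B × ZMod 2 => r (cj x.1 a') + x.2 • r a') ⟨fun x y e => by
    have k : x.2 = y.2 := add_left_cancel (by rw [← h.coef hr x.1.2, ← h.coef hr y.1.2]; exact congrArg (Cl.spB _ _ · _) e)
    simp only [k, add_left_inj] at e
    exact Prod.ext (Subtype.ext (h.N_inj (by rw [h.N_eq x.1.2, h.N_eq y.1.2,
      h.injOn hr (h.hD _ _ h.ha') (h.hD _ _ h.ha') e]))) k, fun u =>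
    let ⟨b, hb, e, k⟩ := h.surj hr u; ⟨(⟨b, hb⟩, e), k.symm⟩⟩
  rw [Nat.card_prod, hB, Nat.card_fun, Nat.card_zmod, Nat.card_sum, Nat.card_eq_fintype_card, Fintype.card_fin] at this
  have := Nat.pow_right_injective (le_refl 2) (show 2 ^ 6 = 2 ^ (m + m) from this)
  omega

theorem all {v : Fin m ⊕ Fin m → ZMod 2} (hv : v ≠ 0) : ∃ c ∈ D, r c = v := by
  have k : ∀ u, Cl.spB m (ZMod 2) u (r a) = 1 → ∃ c ∈ D, r c = u := fun u hu => by
    obtain ⟨b, hb, e, rfl⟩ := h.surj hr u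
    rw [h.coef hr hb, add_eq_left] at hu
    exact ⟨_, h.hD b _ h.ha', by simp [hu]⟩
  refine (z2 _).elim (fun e => ?_) (k v)
  obtain ⟨u, k1, k2⟩ : ∃ u, Cl.spB m (ZMod 2) u (r a) = 1 ∧ Cl.spB m (ZMod 2) u v = 1 := by
    obtain ⟨x, hx⟩ : ∃ x, Cl.spB m (ZMod 2) x v ≠ 0 := by
      by_contra! k1
      exact hv (Cl.spB_nondegenerate.2 v k1)
    replace hx := (z2 _).resolve_left hx
    have hy := h.ra hr B.one_mem
    rcases z2 (Cl.spB m (ZMod 2) x (r a)) with k1 | k1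
    · rcases z2 (Cl.spB m (ZMod 2) (r (cj 1 a')) v) with k2 | k2
      exacts [⟨x + r (cj 1 a'), by simp [k1, hy], by simp [k2, hx]⟩, ⟨_, hy, k2⟩]
    · exact ⟨x, k1, hx⟩
  obtain ⟨c, hc, rfl⟩ := k u k1
  obtain ⟨d, hd, k3⟩ := k (r c + v) (by simp [k1, e])
  refine ⟨_, h.hD c d hd, ?_⟩
  rw [hr.map_cj_of_not h.sympT h.tt hc hd (by
    rw [← hr.form_eq_zero hc hd, k3, map_add, Cl.spB_isAlt, k2]; decide), k3, ← add_assoc, two_vec, zero_add]

theorem gen : closure D = ⊤ := eq_top_iff.2 fun g _ => by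
  classical
  choose! s hs using fun v hv => h.all hr (v := v) hv
  let f : (Fin m ⊕ Fin m → ZMod 2) → Fin m ⊕ Fin m → ZMod 2 := fun v => if v = 0 then 0 else r (cj g (s v))
  have k1 : ∀ d ∈ D, f (r d) = r (cj g d) := fun d hd => by
    rw [show f (r d) = _ from if_neg (h.r_ne hr hd), h.injOn hr (hs _ (h.r_ne hr hd)).1 hd (hs _ (h.r_ne hr hd)).2]
  have k0 : f 0 = 0 := if_pos rfl
  have k2 : ∀ u v, Cl.spB m (ZMod 2) (f u) (f v) = Cl.spB m (ZMod 2) u v := fun u v => by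
    by_cases hu : u = 0
    · simp [hu, k0]
    by_cases hv : v = 0
    · simp [hv, k0]
    obtain ⟨c, hc, rfl⟩ := h.all hr hu
    obtain ⟨d, hd, rfl⟩ := h.all hr hv
    rw [k1 c hc, k1 d hd, hr.form _ (h.hD g c hc) _ (h.hD g d hd), hr.form c hc d hd, nb, nb, commute_cj]
  have k3 : ∀ u v, f (u + v) = f u + f v := fun u v => hr.ext fun d hd => by
    rw [← cj_cj_inv g d, ← k1 _ (h.hD _ d hd), map_add, LinearMap.add_apply, k2, k2, k2, map_add, LinearMap.add_apply]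
  let φ := (AddMonoidHom.mk' f k3).toZModLinearMap 2
  have k4 : Function.Injective φ := (injective_iff_map_eq_zero φ).2 fun u hu =>
    Cl.spB_nondegenerate.1 u fun v => by rw [← k2, show f u = 0 from hu]; simp
  have k5 : ∀ ψ : Cl.SpG (Cl.spB m (ZMod 2)), ∃ x ∈ closure D, ∀ d ∈ D, r (cj x d) = ψ.1 (r d) := fun ψ => by
    induction (Cl.sp_closure_spT Cl.spB_nondegenerate Cl.spB_isAlt).ge (mem_top ψ) using closure_induction with
    | one => exact ⟨1, one_mem _, fun d _ => by rw [cj_one]; rfl⟩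
    | mem x hx =>
      obtain ⟨v, c, rfl⟩ := hx
      by_cases hv : v = 0 ∨ c = 0
      · exact ⟨1, one_mem _, fun d _ => by rcases hv with rfl | rfl <;> simp [cj_one]⟩
      obtain ⟨hv, hc⟩ := not_or.1 hv
      obtain ⟨x, hx, rfl⟩ := h.all hr hv
      exact ⟨x, subset_closure hx, fun d hd => by
        rw [hr.map_cj h.sympT h.tt hx hd, Cl.spT_apply, (z2 c).resolve_left hc, one_mul]⟩
    | inv x _ hx =>
      obtain ⟨x', k, hx⟩ := hx
      exact ⟨x'⁻¹, inv_mem k, fun d hd => x.1.injective (by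
        rw [← hx _ (h.hD _ d hd), cj_cj_inv]; exact (x.1.apply_symm_apply _).symm)⟩
    | mul x y _ _ hx hy =>
      obtain ⟨x', k, hx⟩ := hx
      obtain ⟨y', k', hy⟩ := hy
      exact ⟨x' * y', mul_mem k k', fun d hd => by rw [← cj_cj, hx _ (h.hD _ d hd), hy d hd]; rfl⟩
  obtain ⟨x, hx, k6⟩ := k5 ⟨LinearEquiv.ofInjectiveEndo φ k4, k2⟩
  rwa [inv_mul_eq_one.1 (h.eq_one (g := x⁻¹ * g) fun d hd => cj_eq_self_iff.1 (by
    rw [← cj_cj, ← h.injOn hr (h.hD x d hd) (h.hD g d hd) ((k6 d hd).trans (k1 d hd)), cj_inv_cj]))] at hx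

end Cf

theorem sp6_of_cliff {H : Type*} [Group H] [Finite H] {V : Type*} [AddCommGroup V]
    [Module (ZMod 2) V] [Nontrivial V] (ρ : H →* Module.End (ZMod 2) V) (hρ : Function.Injective ρ)
    (N : H → Module.End (ZMod 2) V) (hN : ∀ g, N g = ρ g + 1)
    {D : Set H} (hD : ∀ g, ∀ d ∈ D, cj g d ∈ D) (sq : ∀ d ∈ D, d * d = 1) (ne : ∀ d ∈ D, d ≠ 1)
    (ac : ∀ c ∈ D, ∀ d ∈ D, N c * N d + N d * N c = 0 ∨ N c * N d + N d * N c = 1)
    {a a' : H} (ha : a ∈ D) (ha' : a' ∈ D) (haa : N a * N a' + N a' * N a = 1)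
    (B : Subgroup H) (hB : Nat.card B = 32) (haB : a ∈ B)
    (h1 : ∀ b ∈ B, N b * N a = 0) (h2 : ∀ b ∈ B, N a * N b = 0)
    (hl : ∀ v, ∃ s ∈ B, ∃ s' ∈ B, (∃ w, N s w = N a v) ∧ (∃ w, N s' w = N a v) ∧
      ∀ w w', N s w = N s' w' → N s w = 0 ∨ N s w = N a v) :
    Nonempty (H ≃* Matrix.symplecticGroup (Fin 3) (ZMod 2)) := by
  have h : Cf ρ N D a a' B := ⟨hρ, hN, hD, sq, ne, ac, ha, ha', haa, haB, h1, h2, hl⟩
  obtain ⟨m, r, hr⟩ := exists_spEmb D
  obtain rfl := h.three hr hB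
  obtain ⟨e, -⟩ := (hr.spRep h.sympT h.tt (h.injOn hr) (fun _ => h.r_ne hr) fun _ => h.all hr).exists_equiv
    (h.tt.group (h.gen hr)) (eq_bot_iff.2 fun g hg => h.eq_one fun d _ => (mem_center_iff.1 hg d).symm) (by norm_num)
  exact ⟨e⟩

end Cfsg.Agent.Wk
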