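import Mathlib
import Cfsg.Agent.Wk.Large

/-! Large pairs: the lines inside `U`, and the relations between two large neighbours of `z`. -/

set_option autoImplicit false
set_option linter.unusedSectionVars false

namespace Cfsg.Agent.Wk

open Cfsg.Agent.Spor Cfsg.Agent.Spor.TT Cfsg.Agent.LX Cfsg.Agent.Gr6 Cfsg.Agent.W3 Subgroup

variable {G : Type*} [Group G] [Finite G] {z a b c d e f g p t u v w x y : G}

theorem PW.cj_U_iff (h : PW z a) (hg : Commute z g) : cj g u ∈ (h.cjz hg).U ↔ u ∈ h.U := by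
  refine ⟨fun k => ?_, h.cj_U hg⟩
  obtain ⟨e, he, k⟩ := (h.cjz hg).cj_U hg.inv_right k
  rw [cj_inv_cj, cj_inv_cj] at k
  exact ⟨e, he, k⟩

theorem PW.mul_mem_of_eqv (h : PW z a) (h' : PW z b) (ev : ∀ e ∈ QQ z, Eqv z (cm b e) (cm a e)) :
    b * a ∈ QQ z := by
  refine mem_of_nm h.big (h'.comm.mul_right h.comm) fun e he f hf => ?_
  have m := h.big.cj_mem h.comm he
  have e1 := bf_nm h.big h'.comm m hf
  have e2 := bf_nm h.big h.comm m hf
  rw [← cm_nm h'.sq, h.big.es.aes.bf_eqv_right hf (ev _ m), cm_nm h.sq, e2, cj_cj, h.sq, cj_one,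
    add_right_inj] at e1
  rw [bf_nm h.big (h'.comm.mul_right h.comm) he hf, ← cj_cj, ← e1]
  exact CharTwo.add_self_eq_zero _

theorem PW.U_eq_of_mul (h : PW z a) (h' : PW z b) (k : b * a ∈ QQ z) : h'.U = h.U :=
  le_antisymm (h.U_le_of_mul h' k) (h'.U_le_of_mul h (by
    have := inv_mem k
    rwa [mul_inv_rev, inv_eq_of_mul_eq_one_right h.sq, inv_eq_of_mul_eq_one_right h'.sq] at this))

theorem comm_mul_of_ker (h : WP.Bg z) {X : Subgroup G} (hX : X ≤ QQ z) (he : e ∈ QQ z) (hf : f ∈ QQ z)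
    (k : ∀ y ∈ X, Commute e y → Commute f y) (hu : u ∈ X) (n : ¬ Commute f u) (hy : y ∈ X) :
    Commute (e * f) y := by
  by_cases c : Commute e y
  · exact c.mul_left (k y hy c)
  refine h.es.aes.comm_mul_of_ne he hf (hX hy) c fun l => n ?_
  have := k _ (mul_mem hy hu) (h.es.aes.comm_mul_of_ne (hX hy) (hX hu) he (fun m => c m.symm)
    fun m => n (k u hu m.symm)).symm
  simpa using (Commute.inv_right l).mul_right this

namespace La

theorem mem_of_comm (h : La z a) (hx : x ∈ QQ z) (k : ∀ u ∈ h.U, Commute u x) : x ∈ h.U :=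
  h.le x hx (h.A_of_C h.e0 hx k)

theorem exists_ncomm' (h : La z a) (he : e ∈ QQ z) (hn : ¬ Commute a e) : ∃ u ∈ h.U, ¬ Commute u e := by
  by_contra k
  push Not at k
  exact hn (h.A_of_C h.e0 he k)

theorem exists_cm (h : La z a) (hu : u ∈ h.U) (n : ¬ Eqv z u 1) :
    ∃ e ∈ QQ z, ¬ Commute a e ∧ Eqv z u (cm a e) := by
  obtain ⟨e, he, k⟩ := hu
  exact ⟨e, he, fun c => n ((cm_eq_one_iff h.sq).2 c ▸ k), k⟩

variable (h : La z a) (h5 : 512 ≤ Nat.card (QQ z))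
include h h5

theorem h5' : 512 ≤ Nat.card (QQ a) := (card_QQ h.nb.1).symm ▸ h5

section Line

variable (hx : x ∈ QQ a) (hn : ¬ Commute z x)
include hx hn

theorem bl : Sm z (cj x z) := h.sym.sm_cj (h.h5' h5) hx hn

theorem cm_bl (e : G) (he : e ∈ QQ z) : cm (cj x z) e = nm (cm z x) e := by
  rw [cm_nm (h.bl h5 hx hn).sq, cj_eq_cm h.big.sq, nm, nm, ← cj_cj,
    cj_of_commute (h.big.comm (inv_mem he))]

theorem bl_le : (h.bl h5 hx hn).U ≤ h.U := by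
  rintro _ ⟨e, he, k⟩
  exact h.U_eqv k (h.cm_bl h5 hx hn e he ▸ h.nm_mem_U h5 (h.sym.cm_mem_U hx) he)

theorem bl_comm (hu : u ∈ h.U) : Commute (cj x z) u := by
  rw [cj_eq_cm h.big.sq]
  exact (h.B_A h5 (h.sym.cm_mem_U hx) hu).mul_left (h.big.comm (h.U_le hu))

theorem cm_t (he : e ∈ QQ z) (n : ¬ Commute (cj x z) e) : ∃ f ∈ QQ z, cm (cj x z) e = z * cm a f := by
  have ht := h.bl h5 hx hn
  obtain ⟨f, hf, k | k⟩ := h.bl_le h5 hx hn (ht.cm_mem_U he)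
  swap
  · exact ⟨f, hf, k⟩
  exfalso
  obtain ⟨y, hy, ny⟩ : ∃ y ∈ QQ z ⊓ centralizer {cj x z}, y ∉ h.U := by
    by_contra l
    push Not at l
    have h1 := card_le_of_le (show _ ≤ h.U from l)
    have h2 := ht.card_UA ht.e0
    rw [ht.card_U, h.card_eq h5] at h2
    rw [h.card_U32 h5] at h1
    omega
  have key : ∀ w ∈ QQ z, Commute (cj x z) w → cm a f = cm a (e * w) := fun w hw c => by
    have m := mul_mem he hw
    refine (h.cm_cases h5 (h.sym.cm_mem_U hx) m (fun l => n ?_) hf ?_).resolve_left fun l =>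
      n ((cm_eq_one_iff ht.sq).1 (k.trans l))
    · simpa using (h.bl_comm h5 hx hn (h.le _ m l)).mul_right c.inv_right
    · rw [← h.cm_bl h5 hx hn _ m, ht.cm_mul_A ht.e0 he c, k]
  have k1 := key y hy.1 (mem_cent.1 hy.2)
  rw [key 1 (one_mem _) (Commute.one_right _), mul_one, cm_mul a e y h.sq, right_eq_mul, cj_eq_iff,
    cj_one_right, cm_eq_one_iff h.sq] at k1
  exact ny (h.le y hy.1 k1)

theorem E_S (h1 : d ∈ QQ z) (h2 : d ∈ QQ (cj x z)) : ∃ f ∈ QQ z, d = cm a f := by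
  have ht := h.bl h5 hx hn
  by_cases k : d = 1
  · exact ⟨1, one_mem _, k.trans ((cm_eq_one_iff h.sq).2 (Commute.one_right a)).symm⟩
  obtain ⟨e, he, rfl⟩ := ht.D_of_zero ht.e0 h1 h2 k
  obtain ⟨f, hf, l⟩ := h.cm_t h5 hx hn he fun c => ht.D_ne h2 (by
    rw [(cm_eq_one_iff ht.sq).2 c, mul_one])
  exact ⟨f, hf, by rw [l, h.big.es.z_mul_z_mul]⟩

theorem iso (hf : f ∈ QQ z) (k : cm a f ∈ (h.bl h5 hx hn).U) : Commute (cj x z) f := by
  have ht := h.bl h5 hx hn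
  have aes := h.big.es.aes
  refine ht.A_of_C ht.e0 hf fun w hw => ?_
  obtain ⟨d1, m1, m1', e1⟩ := ht.exists_D_eqv k
  obtain ⟨d2, m2, m2', e2⟩ := ht.exists_D_eqv hw
  obtain ⟨f1, k1, rfl⟩ := h.E_S h5 hx hn m1 m1'
  obtain ⟨f2, k2, rfl⟩ := h.E_S h5 hx hn m2 m2'
  obtain ⟨f3, k3, l⟩ := h.E_S h5 hx hn (mul_mem m1 m2) (mul_mem m1' m2')
  refine (bf_eq_zero.1 ?_ : _ * _ = _).symm
  rw [← aes.bf_eqv_right hf e2, h.bf_cm_symm k2 hf, ← aes.bf_eqv_right k2 e1, h.bf_cm_symm k1 k2,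
    bf_eq_zero]
  by_contra c
  exact h.cm_ne h.e0 (mul_mem k1 k2) k3 (by rw [h.cm_mul_of_not h.e0 k1 k2 c, l])

theorem fix (he : e ∈ QQ z) (c : Commute (cj x z) e) : cm a e ∈ QQ (cj x z) := by
  have ht := h.bl h5 hx hn
  let P : Subgroup G :=
    { carrier := {e | e ∈ QQ z ∧ cm a e ∈ ht.U}
      one_mem' := ⟨one_mem _, by
        rw [(cm_eq_one_iff h.sq).2 (Commute.one_right a)]; exact one_mem _⟩
      mul_mem' := fun k l => ⟨mul_mem k.1 l.1, ht.U_eqv (h.cm_mul_eqv k.1 l.1) (mul_mem k.2 l.2)⟩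
      inv_mem' := fun {w} k => ⟨inv_mem k.1, ht.U_eqv (eqv_of_bf h.big (h.cm_mem (inv_mem k.1))
        (h.cm_mem k.1) fun y hy => by
          rw [h.bf_cm_symm (inv_mem k.1) hy, bf_inv_left, h.bf_cm_symm k.1 hy]) k.2⟩ }
  have UP : h.U ≤ P := fun u hu =>
    ⟨h.U_le hu, (cm_eq_one_iff h.sq).2 (h.U_A h.e0 hu) ▸ one_mem _⟩
  obtain ⟨d1, m1, d2, m2, n1, n2, n3⟩ := ht.exists_D
  have ex : ∀ d ∈ QQ z ⊓ QQ (cj x z), d ≠ 1 → ∃ f ∈ P, d = cm a f ∧ ∃ u ∈ h.U, ¬ Commute u f :=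
    fun d hd n => by
      obtain ⟨f, hf, rfl⟩ := h.E_S h5 hx hn hd.1 hd.2
      exact ⟨f, ⟨hf, ht.D_U ht.e0 hd.1 hd.2⟩, rfl,
        h.exists_ncomm' hf fun l => n ((cm_eq_one_iff h.sq).2 l)⟩
  obtain ⟨f1, p1, e1, w1, u1, c1⟩ := ex d1 m1 n1
  obtain ⟨f2, p2, c2, w2, u2, c3⟩ : ∃ f ∈ P, Commute w1 f ∧ ∃ u ∈ h.U, ¬ Commute u f := by
    obtain ⟨f2, p2, e2, k2⟩ := ex d2 m2 n2
    by_cases k : Commute w1 f2
    · exact ⟨f2, p2, k, k2⟩
    refine ⟨f1 * f2, mul_mem p1 p2, (h.big.es.aes.comm_mul_of_ne p1.1 p2.1 (h.U_le u1)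
      (fun l => c1 l.symm) fun l => k l.symm).symm, h.exists_ncomm' (mul_mem p1.1 p2.1) fun l => n3 ?_⟩
    have := h.cm_mul_eqv p1.1 p2.1
    rw [(cm_eq_one_iff h.sq).2 l, ← e1, ← e2] at this
    have := ht.eq_of_eqv (one_mem _) (mul_mem m1.2 m2.2) this
    rwa [eq_comm, mul_eq_one_iff_eq_inv, inv_eq_of_mul_eq_one_right (ht.D_sq m2.1 m2.2)] at this
  have s1 := two_mul_card_le (inf_le_left (a := P) (b := centralizer {w1})) p1
    fun l => c1 (mem_cent.1 l.2)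
  have s2 := two_mul_card_le (inf_le_left (a := P ⊓ centralizer {w1}) (b := centralizer {w2}))
    ⟨p2, mem_cent.2 c2⟩ fun l => c3 (mem_cent.1 l.2)
  have s3 := card_le_of_le (show h.U ≤ P ⊓ centralizer {w1} ⊓ centralizer {w2} from fun u hu =>
    ⟨⟨UP hu, mem_cent.2 (h.U_comm_U u1 hu)⟩, mem_cent.2 (h.U_comm_U u2 hu)⟩)
  have s4 := ht.card_UA ht.e0
  rw [ht.card_U, h.card_eq h5] at s4
  rw [h.card_U32 h5] at s3
  have := eq_of_le_of_card_ge (show P ≤ QQ z ⊓ centralizer {cj x z} from fun f hf =>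
    ⟨hf.1, mem_cent.2 (h.iso h5 hx hn hf.1 hf.2)⟩) (by omega)
  have k : e ∈ P := this ▸ ⟨he, mem_cent.2 c⟩
  refine (ht.U_D k.2).resolve_right fun l => ?_
  obtain ⟨f, hf, m⟩ := h.E_S h5 hx hn (mul_mem h.big.z_mem (h.cm_mem he)) l
  exact h.cm_ne h.e0 hf he m.symm

end Line

/-- The line attached to an element of `Q_a ⊓ Q_{a^e}`. -/
theorem exists_bl (he : e ∈ QQ z) (hn : ¬ Commute a e) (h1 : d ∈ QQ a) (h2 : d ∈ QQ (cj e a))
    (hd : d ≠ 1) : ∃ x ∈ QQ a, ∃ ht : Sm z (d * z), cj x z = d * z ∧ ¬ Commute z x ∧ d ∈ h.sym.U ∧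
      ht.U ≤ h.U ⊓ centralizer {e} ∧ cm a e ∈ ht.U := by
  obtain ⟨x, hx, rfl⟩ := h.sym.E_S (h.h5' h5) he hn h1 h2
  have n : ¬ Commute z x := fun c => hd ((cm_eq_one_iff h.big.sq).2 c)
  have c : Commute (cj x z) e := by
    rw [cj_eq_cm h.big.sq]; exact (h.D_cj h5 he hn h1 h2).2.symm.mul_left (h.big.comm he)
  have ht := h.bl h5 hx n
  have := h.fix h5 hx n he c
  have le := h.bl_le h5 hx n
  rw [← cj_eq_cm h.big.sq]
  exact ⟨x, hx, ht, rfl, n, h.sym.cm_mem_U hx,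
    fun u hu => ⟨le hu, mem_cent.2 (ht.A_U he c hu).symm⟩, ht.D_U ht.e0 (h.cm_mem he) this⟩

theorem card_Z (he : e ∈ QQ z) (hn : ¬ Commute a e) : Nat.card ↥(h.U ⊓ centralizer {e}) = 16 := by
  obtain ⟨u, hu, n⟩ := h.exists_ncomm' he hn
  have h1 := two_mul_card_le (inf_le_left (a := h.U) (b := centralizer {e})) hu
    fun c => n (mem_cent.1 c.2).symm
  have h2 := card_le_two_mul h.U (centralizer {e}) fun v hv w hw nv nw => mem_cent.2
    (h.big.es.aes.comm_mul_of_ne (h.U_le hv) (inv_mem (h.U_le hw)) he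
      (fun l => nv (mem_cent.2 (Commute.symm l))) fun l =>
      nw (mem_cent.2 (Commute.inv_left_iff.1 l).symm)).symm
  rw [h.card_U32 h5] at h1 h2
  omega

theorem bl_ne (he : e ∈ QQ z) (hn : ¬ Commute a e) {d' : G} (h1 : d ∈ QQ a) (h2 : d' ∈ QQ a)
    (hd : d ≠ d') (ht : Sm z (d * z)) (ht' : Sm z (d' * z)) (k : cm a e ∈ ht.U) (k' : cm a e ∈ ht'.U)
    (hu : u ∈ ht.U) (hu' : u ∈ ht'.U) : Eqv z u 1 ∨ Eqv z u (cm a e) := by
  by_contra n
  rw [not_or] at n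
  have := ht.mul_mem_of_le ht' (ht.U_span ht'.z_mem_U k hu k' hu'
    (fun l => hn (h.comm_of_eqv h.e0 he l)) n.1 n.2)
  rw [← inv_eq_of_mul_eq_one_right ht.sq, mul_inv_rev, mul_assoc, mul_inv_cancel_left] at this
  exact hd (mul_inv_eq_one.1 (h.D_one h5 this (mul_mem h2 (inv_mem h1)))).symm

/-- Every isotropic line of `U` comes from a small neighbour. -/
theorem line_ex (he : e ∈ QQ z) (hn : ¬ Commute a e) (hy : y ∈ h.U) (c : Commute e y) :
    ∃ x ∈ QQ a, ¬ Commute z x ∧ ∃ ht : Sm z (cj x z), ht.U ≤ h.U ∧ cm a e ∈ ht.U ∧ y ∈ ht.U := by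
  have hs := h.sm_cj h5 he hn
  obtain ⟨d1, m1, d2, m2, n1, n2, n3⟩ := hs.exists_D
  have s2 := hs.D_sq m2.1 m2.2
  have m3 := mul_mem m1 m2
  have n4 : d1 * d2 ≠ 1 := fun l => n3 (by
    rwa [mul_eq_one_iff_eq_inv, inv_eq_of_mul_eq_one_right s2] at l)
  obtain ⟨x1, a1, t1, e1, b1, -, l1, p1⟩ := h.exists_bl h5 he hn m1.1 m1.2 n1
  obtain ⟨x2, a2, t2, e2, b2, -, l2, p2⟩ := h.exists_bl h5 he hn m2.1 m2.2 n2
  obtain ⟨x3, a3, t3, e3, b3, -, l3, p3⟩ := h.exists_bl h5 he hn m3.1 m3.2 n4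
  have fin : ∀ {x d : G} (t : Sm z (d * z)), x ∈ QQ a → cj x z = d * z → ¬ Commute z x →
      t.U ≤ h.U ⊓ centralizer {e} → cm a e ∈ t.U → y ∈ t.U →
      ∃ x ∈ QQ a, ¬ Commute z x ∧ ∃ ht : Sm z (cj x z), ht.U ≤ h.U ∧ cm a e ∈ ht.U ∧ y ∈ ht.U := by
    intro x d t k1 k2 k3 k4 k5 k6
    exact ⟨x, k1, k3, by rw [k2]; exact ⟨t, k4.trans inf_le_left, k5, k6⟩⟩
  by_cases y1 : y ∈ t1.U
  · exact fin t1 a1 e1 b1 l1 p1 y1
  by_cases y2 : y ∈ t2.U
  · exact fin t2 a2 e2 b2 l2 p2 y2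
  refine fin t3 a3 e3 b3 l3 p3 ?_
  obtain ⟨w, hw, k1, k2⟩ : ∃ w ∈ t3.U, ¬ Eqv z w 1 ∧ ¬ Eqv z w (cm a e) := by
    by_contra k
    push Not at k
    have := card_le_four (D := t3.U) (x := z * 1) (y := cm a e) (w := z * cm a e) fun w hw => by
      have := k w hw
      unfold Eqv at this
      tauto
    rw [t3.card_U] at this
    omega
  have hZ := h.card_Z h5 he hn
  have step : ∀ {d : G} (t : Sm z (d * z)), d ∈ QQ a → d ≠ d1 * d2 → t.U ≤ h.U ⊓ centralizer {e} →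
      cm a e ∈ t.U → y ∉ t.U → y * w⁻¹ ∈ t.U := fun t k3 k4 k5 k6 k7 =>
    (adj_card h.big t.U_le t.z_mem_U (t3.U_le hw) (fun l => (h.bl_ne h5 he hn k3 m3.1 k4 t t3 k6 p3
      l hw).elim k1 k2) k5 (l3 hw) (by rw [hZ, t.card_U]) ⟨hy, mem_cent.2 c⟩).resolve_left k7
  have := h.bl_ne h5 he hn m1.1 m2.1 n3 t1 t2 p1 p2 (step t1 m1.1 (fun l => n2 (left_eq_mul.1 l)) l1 p1 y1)
    (step t2 m2.1 (fun l => n1 (right_eq_mul.1 l)) l2 p2 y2)
  have := this.elim (fun l => t3.U_eqv l (one_mem _)) fun l => t3.U_eqv l p3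
  simpa using mul_mem this hw

theorem line_ex' (hp : p ∈ h.U) (he : e ∈ QQ z) (k : Eqv z p (cm a e)) (n : ¬ Eqv z p 1) (hy : y ∈ h.U)
    (c : Commute e y) : ∃ t, ∃ ht : Sm z t, ht.U ≤ h.U ∧ p ∈ ht.U ∧ y ∈ ht.U :=
  let ⟨_, _, _, ht, k1, k2, k3⟩ := h.line_ex h5 he (fun l => n ((cm_eq_one_iff h.sq).2 l ▸ k)) hy c
  ⟨_, ht, k1, ht.U_eqv k k2, k3⟩

/-- The normaliser of `U` is transitive on the points of `U`. -/
theorem trans (hp : p ∈ h.U) (hv : v ∈ h.U) (n1 : ¬ Eqv z p 1) (n2 : ¬ Eqv z v 1) :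
    ∃ g, ∃ hg : Commute z g, (h.cjz hg).U = h.U ∧ Eqv z (cj g p) v := by
  have zz := h.big.sq
  by_cases k : Eqv z p v
  · exact ⟨1, Commute.one_right z, h.U_eq_of_mul (h.cjz (Commute.one_right z)).toPW
      (h.cj_mul_mem (one_mem _)), by rwa [cj_one]⟩
  have pp := h.U_sq h.e0 hp
  have hw := mul_mem hv hp
  have n3 : ¬ Eqv z (v * p) 1 := fun l => k (by
    have := l.mul_right p
    rw [mul_assoc, pp, mul_one, one_mul] at this
    exact this.symm zz)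
  obtain ⟨e, he, ne, k1⟩ := h.exists_cm hw n3
  obtain ⟨W, hW, mW⟩ := exists_zd h.big (h.U_le hw)
  have zW : z ∈ W := (mW z).2 (Or.inl (Or.inr (mul_one z).symm))
  obtain ⟨y, hy, ny⟩ : ∃ y ∈ h.U ⊓ centralizer {e}, y ∉ adj h.big W hW zW p (h.U_le hp) := by
    by_contra l
    push Not at l
    have h1 := card_le_of_le (show _ ≤ adj h.big W hW zW p (h.U_le hp) from l)
    have h2 := card_le_two_mul (adj h.big W hW zW p (h.U_le hp)) W fun u hu w hw nu nw => by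
      simpa using mul_mem (hu.resolve_left nu) (inv_mem (hw.resolve_left nw))
    have h3 : Nat.card ↥(adj h.big W hW zW p (h.U_le hp) ⊓ W) ≤ 4 :=
      card_le_four (x := z * 1) (y := v * p) (w := z * (v * p)) fun w hw => by
        have := (mW w).1 hw.2
        unfold Eqv at this
        tauto
    rw [h.card_Z h5 he ne] at h1
    omega
  obtain ⟨x, hx, nx, ht, l1, l2, l3⟩ := h.line_ex h5 he ne hy.1 (mem_cent.1 hy.2)
  have l4 := ht.U_eqv k1 l2
  have np : p ∉ ht.U := fun l => ny (ht.U_span (Or.inl zW) l4 l (Or.inl ((mW _).2 (Or.inr (Or.inl rfl))))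
    (Or.inr (by rw [mul_inv_cancel]; exact one_mem _)) n3 n1 (fun m => n2 (by
      have := (m.mul_right p).symm zz
      rwa [mul_assoc, pp, mul_one] at this)) l3)
  obtain ⟨d, d1, d2, d3⟩ := ht.exists_D_eqv l4
  obtain ⟨g, hg, cg, eg⟩ := ht.sym.surj (h.U_le hp) (h.bl_comm h5 hx nx hp) np d2 d1
  refine ⟨g, cg, h.U_eq_of_mul (h.cjz cg).toPW ?_, ?_⟩
  · have h' : La (cj x z) a := by
      have := h.cjp x
      rwa [cj_of_commute (h.symm.big.comm hx).symm] at this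
    have := h'.fix ((card_QQ (LX.isConj_cj x z)).symm ▸ h5) (inv_mem hx)
      (fun l => nx (by
        have := commute_cj_left.1 l
        rw [cj_of_commute (Commute.refl x⁻¹)] at this
        exact Commute.inv_right_iff.1 this)) hg (by rwa [cj_inv_cj])
    rwa [cj_inv_cj] at this
  · have := d3.mul_right p
    rwa [← eg, nm_mul_self, mul_assoc, pp, mul_one] at this

end La

/-- The lines of `X` through `p` span `X`. -/
def Full (z : G) (X : Subgroup G) (p : G) : Prop :=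
  ∀ w ∈ QQ z, (∀ t, ∀ ht : Sm z t, p ∈ ht.U → ht.U ≤ X → ∀ v ∈ ht.U, Commute v w) → w ∈ X

theorem Full.cj {X Y : Subgroup G} (h : Full z X p) (hb : WP.Bg z) (hg : Commute z g)
    (k : ∀ u, cj g u ∈ Y ↔ u ∈ X) (e : Eqv z (cj g p) v) : Full z Y v := fun w hw l => by
  rw [← cj_cj_inv g w, k]
  refine h _ (hb.cj_mem hg.inv_right hw) fun t ht h1 h2 u hu => commute_cj_left.1
    (l _ (ht.cjz hg) ((ht.cjz hg).U_eqv (e.symm hb.sq) (ht.cj_U hg h1)) (fun s hs => ?_) _ (ht.cj_U hg hu))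
  rw [← cj_cj_inv g s] at hs ⊢
  exact (k _).2 (h2 ((ht.cj_U_iff hg).1 hs))

namespace La

theorem not_norm (h : La z a) : ¬ ∀ g, ∀ hg : Commute z g, h.U ≤ (h.cjz hg).U := fun k => by
  have : Fact (Nat.Prime 2) := ⟨Nat.prime_two⟩
  have cz : ∀ g ∈ centralizer (h.U : Set G), Commute z g := fun g hg => hg z h.z_mem_U
  have inv : ∀ g, Commute z g → ∀ u ∈ h.U, cj g⁻¹ u ∈ h.U := fun g hg u hu =>
    (h.cj_U_iff hg).1 (by rw [cj_cj_inv]; exact k g hg hu)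
  have st : ∀ g, Commute z g → ∀ s ∈ centralizer (h.U : Set G), g * s * g⁻¹ ∈ centralizer (h.U : Set G) :=
    fun g hg s hs u hu => (commute_cj_left.2 (Commute.symm (hs _ (inv g hg u hu)))).symm
  refine h.not_mem (GT.le_pCoreOf (N := centralizer (h.U : Set G))
    (fun g hg => mem_cent.2 (cz g hg)) (fun g hg => mem_normalizer_iff.2 fun s => ⟨st g (mem_cent.1 hg) s,
      fun l => by simpa [mul_assoc] using st _ (mem_cent.1 hg).inv_right _ l⟩) (fun g => ⟨3, Subtype.ext ?_⟩)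
    fun u hu => (h.U_A h.e0 hu).symm)
  have c := cz _ g.2
  have := h.big.es.aes.pow_four (sq_mem h.big c fun e he => Or.inl (cj_of_commute (Commute.symm (g.2 _
    (h.mem_of_comm (nm_mem h.big c he) fun u hu => bf_eq_zero.1 (by
      rw [bf_nm' h.big c he (h.U_le hu), nm_eq_one_iff.2 (Commute.symm (g.2 u hu)).inv_left]
      exact bf_eq_zero.2 (by simp)))))))
  rw [← pow_two, ← pow_mul] at this
  exact this

variable (h : La z a) (h5 : 512 ≤ Nat.card (QQ z))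
include h h5

theorem exists_fixed (ht : Sm z t) : ∃ u ∈ h.U, ¬ Eqv z u 1 ∧ Commute t u := by
  by_contra k
  push Not at k
  have h1 := card_le_nm h.U ht.U t fun u hu => by
    have : nm u t = (cm t u)⁻¹ := by
      rw [nm, cm, mul_inv_rev, cj_inv, inv_eq_of_mul_eq_one_right ht.sq]
    exact this ▸ inv_mem (ht.cm_mem_U (h.U_le hu))
  have h2 : Nat.card ↥(h.U ⊓ centralizer {t}) ≤ 2 := card_le_two (d := z * 1) fun u hu => by
    by_contra l
    exact k u hu.1 l (mem_cent.1 hu.2)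
  rw [h.card_U32 h5, ht.card_U] at h1
  omega

theorem exists_line : ∃ t, ∃ ht : Sm z t, ht.U ≤ h.U := by
  obtain ⟨x, hx, f, hf, k⟩ := h.sym.exists_ne
  have n : ¬ Commute z x := fun c => by
    rw [(cm_eq_one_iff h.big.sq).2 c, bf_z h.symm.big hf (Or.inl rfl)] at k; exact zero_ne_one k
  exact ⟨_, h.bl h5 hx n, h.bl_le h5 hx n⟩

/-- Every line inside `U` is isotropic. -/
theorem noniso (ht : Sm z t) (le : ht.U ≤ h.U) (hf : f ∈ QQ z) (k : cm a f ∈ ht.U) (hy : y ∈ ht.U) :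
    Commute f y := by
  by_contra n
  have np : ¬ Eqv z (cm a f) 1 := fun l => n (h.A_U hf (h.comm_of_eqv h.e0 hf l) (le hy)).symm
  have f0 : Full z h.U (cm a f) := fun w hw l => h.mem_of_comm hw fun u hu => by
    have k1 : ∀ u ∈ h.U, Commute f u → Commute u w := fun u hu c =>
      let ⟨_, hs, l1, l2, l3⟩ := h.line_ex' h5 (le k) hf (Or.inl rfl) np hu c
      l _ hs l2 l1 u l3
    by_cases c : Commute f u
    · exact k1 u hu c
    · simpa using (k1 _ (mul_mem hu (le hy)) (h.big.es.aes.comm_mul_of_ne (h.U_le hu) (ht.U_le hy) hf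
        (fun m => c m.symm) fun m => n m.symm).symm).mul_left (l t ht k le y hy).inv_left
  have f1 : ∀ v ∈ h.U, ¬ Eqv z v 1 → Full z h.U v := fun v hv nv => by
    obtain ⟨g, hg, e1, e2⟩ := h.trans h5 (le k) hv np nv
    exact f0.cj h.big hg (fun u => by have := h.cj_U_iff (u := u) hg; rwa [e1] at this) e2
  have c1 : ∀ g, ∀ hg : Commute z g, ∀ p ∈ h.U, p ∈ (h.cjz hg).U → ¬ Eqv z p 1 → h.U ≤ (h.cjz hg).U := by
    intro g hg p h1 h2 n1 w hw
    have h3 : cj g⁻¹ p ∈ h.U := (h.cj_U_iff hg).1 (by rwa [cj_cj_inv])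
    refine (f1 _ h3 fun l => n1 ?_).cj h.big hg (fun u => h.cj_U_iff hg) (Or.inl (cj_cj_inv g p)) w
      (h.U_le hw) fun s hs l1 l2 v hv => h.U_comm_U (f1 p h1 n1 v (hs.U_le hv)
        fun r hr l3 l4 v' hv' => hr.perp' hs l3 l1 n1 hv' hv) hw
    have := l.conj hg.eq
    rwa [← cj_def, ← cj_def, cj_cj_inv, cj_one_right] at this
  have := h.not_norm
  push Not at this
  obtain ⟨g, hg, ng⟩ := this
  obtain ⟨s, hs, ls⟩ := (h.cjz hg).exists_line h5
  have triv : ∀ p ∈ h.U, p ∈ hs.U → Eqv z p 1 := fun p h1 h2 => by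
    by_contra l
    exact ng (c1 g hg p h1 (ls h2) l)
  obtain ⟨u, hu, n1, c⟩ := h.exists_fixed h5 hs
  have k2 := c1 s hs.comm u hu (cj_of_commute c ▸ h.cj_U hs.comm hu) n1
  have k3 : ∀ w ∈ h.U, Commute s w := fun w hw => by
    refine hs.comm_of_eqv hs.e0 (h.U_le hw) (triv _ ?_ (hs.cm_mem_U (h.U_le hw)))
    rw [cm_eq s w hs.sq]
    refine mul_mem hw ((h.cj_U_iff hs.comm).1 ?_)
    rw [cj_cj, hs.sq, cj_one]
    exact k2 (inv_mem hw)
  obtain ⟨d, hd, -, -, n2, -⟩ := hs.exists_D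
  have m := hs.D_U hs.e0 hd.1 hd.2
  exact hs.not_eqv hd.2 n2 (triv d (h.mem_of_comm hd.1 fun w hw =>
    (hs.A_U (h.U_le hw) (k3 w hw) m).symm) m)

/-- A large neighbour is determined modulo `Q` by its subgroup `U`. -/
theorem uniq (h' : La z c) (le : h'.U ≤ h.U) : c * a ∈ QQ z := by
  have eq : h'.U = h.U := eq_of_le_of_card_ge le (by rw [h.card_U32 h5, h'.card_U32 h5])
  refine h.mul_mem_of_eqv h'.toPW fun e he => ?_
  by_cases k : Commute c e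
  · rw [(cm_eq_one_iff h'.sq).2 k, (cm_eq_one_iff h.sq).2 (h.U_A h.e0 (le (h'.le e he k)))]
    exact Or.inl rfl
  have np : ¬ Eqv z (cm c e) 1 := fun l => k (h'.comm_of_eqv h'.e0 he l)
  obtain ⟨f, hf, nf, l⟩ := h.exists_cm (le (h'.cm_mem_U he)) np
  obtain ⟨u, hu, nu⟩ := h.exists_ncomm' hf nf
  have := h.A_of_C h.e0 (mul_mem he hf) fun y hy => (comm_mul_of_ker h.big h.U_le he hf (fun w hw cw =>
    let ⟨_, hs, l1, l2, l3⟩ := h'.line_ex' h5 (h'.cm_mem_U he) he (Or.inl rfl) np (eq ▸ hw) cw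
    h.noniso h5 hs (l1.trans le) hf (hs.U_eqv (l.symm h.big.sq) l2) l3) hu (fun m => nu m.symm) hy).symm
  have k1 := h.cm_mul_eqv he hf
  rw [(cm_eq_one_iff h.sq).2 this] at k1
  have k2 := k1.mul_right (cm a f)
  rw [one_mul, mul_assoc, h.U_sq h.e0 (h.cm_mem_U hf), mul_one] at k2
  exact l.trans h.big.sq k2

/-- Large neighbours whose subgroups `U` meet normalise each other's `U`. -/
theorem cm_mem_of_meet (h' : La z c) (hp : p ∈ h.U) (hp' : p ∈ h'.U) (n : ¬ Eqv z p 1) (hu : u ∈ h.U) :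
    cm c u ∈ h.U := by
  have aes := h.big.es.aes
  obtain ⟨e, he, -, k⟩ := h.exists_cm hp n
  obtain ⟨f, hf, -, k'⟩ := h'.exists_cm hp' n
  have k1 : ∀ w ∈ h.U, Commute e w → cm c w ∈ h.U := fun w hw cw => by
    obtain ⟨_, hs, -, l2, l3⟩ := h.line_ex' h5 hp he k n hw cw
    refine (h.big.es.center_centralizer (h.U_le hp) (h'.cm_mem (h.U_le hw)) fun g hg cg => ?_).elim
      (fun l => h.U_eqv l (one_mem _)) fun l => h.U_eqv l hp
    obtain ⟨_, hr, -, l5, l6⟩ := h'.line_ex' h5 hp' hf k' n (h'.cm_mem_U hg) (bf_eq_zero.1 (by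
      rw [h'.bf_cm_symm hg hf, ← aes.bf_eqv_right hg k']; exact bf_eq_zero.2 cg))
    rw [← bf_eq_zero, h'.bf_cm_symm (h.U_le hw) hg]
    exact bf_eq_zero.2 (hs.perp' hr l2 l5 n l3 l6)
  by_cases cu : Commute e u
  · exact k1 u hu cu
  have k2 : ∀ w ∈ h.U, Commute e w → Commute w (cm c u) := fun w hw cw => bf_eq_zero.1 (by
    rw [h'.bf_cm_symm (h.U_le hu) (h.U_le hw)]
    exact bf_eq_zero.2 (h.U_comm_U hu (k1 w hw cw)))
  refine h.mem_of_comm (h'.cm_mem (h.U_le hu)) fun w hw => ?_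
  by_cases cw : Commute e w
  · exact k2 w hw cw
  · simpa using (k2 _ (mul_mem hw hu) (aes.comm_mul_of_ne (h.U_le hw) (h.U_le hu) he
      (fun m => cw m.symm) fun m => cu m.symm).symm).mul_left
        (Commute.inv_left (bf_eq_zero.1 (h'.alt h'.e0 (h.U_le hu))))

theorem cj_mul_of_meet (h' : La z c) (hp : p ∈ h.U) (hp' : p ∈ h'.U) (n : ¬ Eqv z p 1) :
    cj c a * a ∈ QQ z :=
  h.uniq h5 (h.cjz h'.comm) fun u hu => by
    have m : cj c u ∈ h.U := (h.cj_U_iff h'.comm).1 (by rwa [cj_cj, h'.sq, cj_one])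
    have := h.U_eqv (h'.eqv_cj (h.U_le m)) (mul_mem m (h.cm_mem_of_meet h5 h' hp hp' n m))
    rwa [cj_cj, h'.sq, cj_one] at this

/-- Large neighbours with disjoint subgroups `U`. -/
theorem cm_cm_of_disj (h' : La z c) (k : ∀ p ∈ h.U, p ∈ h'.U → Eqv z p 1) (he : e ∈ QQ z) :
    Eqv z (cm c (cm a (cm c e))) (cm c e) := by
  have aes := h.big.es.aes
  have zz := h.big.sq
  have hw := h'.cm_mem_U he
  have wq := h'.U_le hw
  have m := h.cm_mem wq
  by_cases n : Eqv z (cm c e) 1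
  · have : cm a (cm c e) = 1 :=
      (cm_eq_one_iff h.sq).2 (comm_of_eqv' h.comm.symm (Commute.one_right a) n)
    rw [this, (cm_eq_one_iff h'.sq).2 (Commute.one_right c)]
    exact n.symm zz
  obtain ⟨u, hu, nu⟩ := h'.exists_ncomm' m fun l => n (k _ (h.le _ wq (h.comm_of_eqv h.e0 wq
    (k _ (h.cm_mem_U wq) (h'.le _ m l)))) hw)
  have := h'.A_of_C h'.e0 (mul_mem he m) fun y hy => (comm_mul_of_ker h.big h'.U_le he m (fun w hw' cw => by
    obtain ⟨s, hs, l1, l2, l3⟩ := h'.line_ex' h5 hw he (Or.inl rfl) n hw' cw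
    by_contra nc
    obtain ⟨p, p1, p2, p3⟩ := h.exists_fixed h5 hs
    have hs' := h.cjz hs.comm
    have u1 := h.cm_mem_U wq
    have e1 : Eqv z (cj s (cm a (cm c e))) (cm a (cm c e) * cm c e) := (hs.eqv_cj m).trans zz
      ((hs.cm_eqv m l2 n (Commute.symm (bf_eq_zero.1 (h.alt h.e0 wq)))
        fun l => nc (hs.A_U m l l3).symm).mul_left (h.big.comm m).eq)
    have v1 := hs'.U_eqv (e1.symm zz) (h.cj_U hs.comm u1)
    have v2 := hs'.cm_mem_of_meet h5 h (cj_of_commute p3 ▸ h.cj_U hs.comm p1) p1 p2 v1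
    have v3 : cm a (cm c e) ∈ hs'.U := hs'.U_eqv (by
      have := h.cm_mul_eqv m wq
      rw [(cm_eq_one_iff h.sq).2 (h.U_A h.e0 u1), one_mul] at this
      exact this.symm zz) v2
    have v4 : cm c e ∈ hs'.U := by simpa using mul_mem (inv_mem v3) v1
    exact n (k _ ((h.cj_U_iff hs.comm).1 (by rwa [cj_of_commute (hs.U_A hs.e0 l2)])) hw)) hu (fun l => nu l.symm) hy).symm
  have k1 := h'.cm_mul_eqv he m
  rw [(cm_eq_one_iff h'.sq).2 this] at k1
  have k2 := k1.mul_left (w := cm c e) (h.big.comm wq).eq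
  rw [mul_one, ← mul_assoc, h'.U_sq h'.e0 hw, one_mul] at k2
  exact k2.symm zz

theorem anti_of_disj (h' : La z c) (k : ∀ p ∈ h.U, p ∈ h'.U → Eqv z p 1) (he : e ∈ QQ z) :
    Eqv z (cm a (cm c e) * cm c (cm a e)) e := by
  have zz := h.big.sq
  have key : ∀ {a c : G} (h : La z a) (h' : La z c), (∀ p ∈ h.U, p ∈ h'.U → Eqv z p 1) →
      cm a (cm c e) * cm c (cm a e) * e ∈ h.U := by
    intro a c h h' k
    have m1 := h.cm_mem (h'.cm_mem he)
    have m2 := h'.cm_mem (h.cm_mem he)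
    rw [mul_assoc]
    refine mul_mem (h.cm_mem_U (h'.cm_mem he)) (h.le _ (mul_mem m2 he) (h.comm_of_eqv h.e0
      (mul_mem m2 he) ((h.cm_mul_eqv m2 he).trans zz ?_)))
    rw [← h.U_sq h.e0 (h.cm_mem_U he)]
    exact (h'.cm_cm_of_disj h5 h (fun p p1 p2 => k p p2 p1) he).mul_right _
  have m1 := h.cm_mem (h'.cm_mem he)
  have m2 := h'.cm_mem (h.cm_mem he)
  have := (k _ (key h h' k) (h'.U_eqv ((h.big.es.aes.eqv_comm m1 m2).mul_right e)
    (key h' h fun p p1 p2 => k p p2 p1))).mul_right e⁻¹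
  rw [mul_inv_cancel_right, one_mul] at this
  exact this.trans zz (h.big.es.aes.eqv_inv he)

end La

end Cfsg.Agent.Wk
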