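import Mathlib
import Cfsg.Agent.Wk.GeoA
import Cfsg.Agent.Wk.Cliff
import Cfsg.Agent.Cl.QuadExtra

/-! A large pair forces `C(z) / O₂(C(z)) ≅ Sp₆(2)`, acting on `Q / ⟨z⟩` as on the spin module. -/

set_option autoImplicit false
set_option linter.unusedSectionVars false

namespace Cfsg.Agent.Wk

open Cfsg.Agent.Spor Cfsg.Agent.Spor.TT Cfsg.Agent.LX Cfsg.Agent.Gr6 Cfsg.Agent.W3 Subgroup

/-- The action of `C(z) / Q` on `Q / ⟨z⟩`. -/
structure QRep {G H V : Type*} [Group G] [Group H] [AddCommGroup V] [Module (ZMod 2) V] (z : G)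
    (π : G → H) (χ : G → V) (ρ : H →* Module.End (ZMod 2) V) : Prop where
  mul : ∀ g g', Commute z g → Commute z g' → π (g * g') = π g * π g'
  sur : ∀ s, ∃ g, Commute z g ∧ π g = s
  ker : ∀ g, Commute z g → (π g = 1 ↔ g ∈ QQ z)
  add : ∀ x ∈ QQ z, ∀ y ∈ QQ z, χ (x * y) = χ x + χ y
  surV : ∀ v, ∃ x ∈ QQ z, χ x = v
  eqv : ∀ x ∈ QQ z, ∀ y ∈ QQ z, χ x = χ y ↔ Eqv z x y
  act : ∀ g, Commute z g → ∀ x ∈ QQ z, (ρ (π g) + 1) (χ x) = χ (nm g x)
  inj : Function.Injective ρ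

theorem exists_qrep.{u} {G : Type u} [Group G] [Finite G] {z : G} (h : WP.Bg z) :
    ∃ (V : Type u) (_ : AddCommGroup V) (_ : Module (ZMod 2) V)
      (π : G → centralizer ({z} : Set G) ⧸ pCore 2 (centralizer ({z} : Set G))) (χ : G → V)
      (ρ : _ →* Module.End (ZMod 2) V), QRep z π χ ρ := by
  classical
  obtain ⟨V, _, _, χ0, m0, s0, k0⟩ := Cl.quad_exists_quot_module ((zpowers z).subgroupOf (QQ z))
    fun g => by rw [mem_subgroupOf, mem_zp h]; exact h.es.aes.eqv_sq g.2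
  let χ : G → V := fun x => if hx : x ∈ QQ z then χ0 ⟨x, hx⟩ else 0
  have e0 : ∀ x (hx : x ∈ QQ z), χ x = χ0 ⟨x, hx⟩ := fun x hx => dif_pos hx
  have add : ∀ x ∈ QQ z, ∀ y ∈ QQ z, χ (x * y) = χ x + χ y := fun x hx y hy => by
    rw [e0 _ hx, e0 _ hy, e0 _ (mul_mem hx hy), ← m0]; rfl
  have sur : ∀ v, ∃ x ∈ QQ z, χ x = v := fun v => let ⟨x, k⟩ := s0 v; ⟨x, x.2, (e0 _ x.2).trans k⟩
  have ker : ∀ x ∈ QQ z, χ x = 0 ↔ Eqv z x 1 := fun x hx => by
    rw [e0 _ hx, k0, mem_subgroupOf, mem_zp h]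
  have eqv : ∀ x ∈ QQ z, ∀ y ∈ QQ z, χ x = χ y ↔ Eqv z x y := fun x hx y hy => by
    have k := add _ (mul_mem hx (inv_mem hy)) y hy
    rw [inv_mul_cancel_right] at k
    rw [k, add_eq_right, ker _ (mul_mem hx (inv_mem hy))]
    exact ⟨fun l => by simpa using l.mul_right y, fun l => by simpa using l.mul_right y⁻¹⟩
  choose σ hσ sσ using sur
  have cz : ∀ g : centralizer ({z} : Set G), Commute z g := fun g => mem_cent.1 g.2
  have well : ∀ g : centralizer ({z} : Set G), ∀ x ∈ QQ z, χ (cj g (σ (χ x))) = χ (cj g x) :=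
    fun g x hx => (eqv _ (h.cj_mem (cz g) (hσ _)) _ (h.cj_mem (cz g) hx)).2
      (((eqv _ (hσ _) _ hx).1 (sσ _)).conj (cz g).eq)
  let f : centralizer ({z} : Set G) → Module.End (ZMod 2) V := fun g =>
    (AddMonoidHom.mk' (fun v => χ (cj g (σ v))) fun v w => by
      rw [← add _ (h.cj_mem (cz g) (hσ _)) _ (h.cj_mem (cz g) (hσ _)), ← cj_mul,
        ← well g _ (mul_mem (hσ v) (hσ w)), add _ (hσ _) _ (hσ _), sσ, sσ]).toZModLinearMap 2
  have fa : ∀ g, ∀ x ∈ QQ z, f g (χ x) = χ (cj g x) := well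
  let ρ0 : centralizer ({z} : Set G) →* Module.End (ZMod 2) V :=
    { toFun := f
      map_one' := LinearMap.ext fun v => by
        rw [← sσ v, fa _ _ (hσ v), OneMemClass.coe_one, cj_one]; rfl
      map_mul' := fun g g' => LinearMap.ext fun v => by
        rw [← sσ v, Module.End.mul_apply, fa _ _ (hσ v), fa _ _ (hσ v), fa _ _ (h.cj_mem (cz g') (hσ v)),
          cj_cj, coe_mul] }
  have mem : ∀ g : centralizer ({z} : Set G), g ∈ pCore 2 (centralizer ({z} : Set G)) ↔ (g : G) ∈ QQ z :=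
    fun x => ⟨fun k => ⟨x, k, rfl⟩, fun ⟨y, hy, e⟩ => Subtype.val_injective e ▸ hy⟩
  have k1 : ∀ g, ρ0 g = 1 ↔ g ∈ pCore 2 (centralizer ({z} : Set G)) := fun g => by
    rw [mem]
    refine ⟨fun k => h.lg.triv g (cz g) fun x hx => (eqv _ (h.cj_mem (cz g) hx) _ hx).1 ?_,
      fun k => LinearMap.ext fun v => ?_⟩
    · rw [← fa _ _ hx]; exact LinearMap.congr_fun k _
    · rw [← sσ v]
      exact (fa _ _ (hσ v)).trans ((eqv _ (h.cj_mem (cz g) (hσ v)) _ (hσ v)).2 (h.es.aes.eqv_conj k (hσ v)))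
  let π : G → centralizer ({z} : Set G) ⧸ pCore 2 (centralizer ({z} : Set G)) := fun g =>
    if hg : Commute z g then QuotientGroup.mk ⟨g, mem_cent.2 hg⟩ else 1
  have p0 : ∀ g (hg : Commute z g), π g = QuotientGroup.mk ⟨g, mem_cent.2 hg⟩ := fun g hg => dif_pos hg
  refine ⟨V, inferInstance, inferInstance, π, χ, QuotientGroup.lift _ ρ0 fun g hg => (k1 g).2 hg,
    fun g g' k k' => ?_, fun s => ?_, fun g k => ?_, add, fun v => ⟨_, hσ v, sσ v⟩, eqv,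
    fun g k x hx => ?_, (injective_iff_map_eq_one _).2 fun s k => ?_⟩
  · rw [p0 _ k, p0 _ k', p0 _ (k.mul_right k'), ← QuotientGroup.mk_mul]; rfl
  · obtain ⟨g, rfl⟩ := QuotientGroup.mk_surjective s
    exact ⟨g, cz g, p0 _ (cz g)⟩
  · rw [p0 _ k, QuotientGroup.eq_one_iff, mem]
  · rw [p0 _ k, LinearMap.add_apply, nm, add _ hx _ (h.cj_mem k (inv_mem hx)),
      add_comm, cj_inv, (eqv _ (inv_mem (h.cj_mem k hx)) _ (h.cj_mem k hx)).2
        (h.es.aes.eqv_inv (h.cj_mem k hx))]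
    exact congrArg _ (fa ⟨g, mem_cent.2 k⟩ x hx)
  · obtain ⟨g, rfl⟩ := QuotientGroup.mk_surjective s
    exact (QuotientGroup.eq_one_iff _).2 ((k1 g).1 k)

theorem eq_one_of_conj_comm {H : Type*} [Group H] (h : pCore 2 H = ⊥) {s : H} (hs : s * s = 1)
    (k : ∀ g, Commute s (cj g s)) : s = 1 := by
  have m : ∀ x ∈ Group.conjugatesOfSet {s}, ∃ g, cj g s = x := fun x hx => by
    obtain ⟨_, rfl, l⟩ := Group.mem_conjugatesOfSet_iff.1 hx
    exact isConj_iff.1 l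
  have c : ∀ x ∈ Group.conjugatesOfSet {s}, ∀ y ∈ Group.conjugatesOfSet {s}, Commute x y := by
    intro x hx y hy
    obtain ⟨g, rfl⟩ := m x hx
    obtain ⟨g', rfl⟩ := m y hy
    rw [commute_cj_left, cj_cj]
    exact k _
  refine mem_bot.1 (h ▸ GT.le_pCore (N := normalClosure {s}) (fun ⟨x, hx⟩ => ⟨1, Subtype.ext ?_⟩)
    (subset_normalClosure rfl))
  change x ^ 2 ^ 1 = 1
  rw [pow_one, pow_two]
  induction hx using closure_induction with
  | mem x hx => obtain ⟨g, rfl⟩ := m x hx; rw [← cj_mul, hs, cj_one_right]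
  | one => exact one_mul 1
  | mul x y hx hy h1 h2 =>
    have : Commute x y := closure_induction₂ (fun x y hx hy => c x hx y hy)
      (fun _ _ => Commute.one_left _) (fun _ _ => Commute.one_right _)
      (fun _ _ _ _ _ _ => Commute.mul_left) (fun _ _ _ _ _ _ => Commute.mul_right)
      (fun _ _ _ _ => Commute.inv_left) (fun _ _ _ _ => Commute.inv_right) hx hy
    rw [this.symm.mul_mul_mul_comm, h1, h2, one_mul]
  | inv x _ h1 => rw [← mul_inv_rev, h1, inv_one]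

namespace QRep

variable {G H V : Type*} [Group G] [Finite G] [Group H] [AddCommGroup V] [Module (ZMod 2) V]
  {z a b c e g x : G} {π : G → H} {χ : G → V} {ρ : H →* Module.End (ZMod 2) V} (R : QRep z π χ ρ)
include R

theorem one : π 1 = 1 := (R.ker 1 (Commute.one_right z)).2 (one_mem _)

theorem inv (hg : Commute z g) : π g⁻¹ = (π g)⁻¹ :=
  eq_inv_of_mul_eq_one_left (by rw [← R.mul _ _ hg.inv_right hg, inv_mul_cancel, R.one])

theorem cj_eq (hg : Commute z g) (hc : Commute z c) : cj (π g) (π c) = π (cj g c) := by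
  rw [cj_def, cj_def, R.mul _ _ (hg.mul_right hc) hg.inv_right, R.mul _ _ hg hc, R.inv hg]

theorem zero : χ 1 = 0 := by simpa using R.add 1 (one_mem _) 1 (one_mem _)

theorem ext {f f' : Module.End (ZMod 2) V} (k : ∀ x ∈ QQ z, f (χ x) = f' (χ x)) : f = f' :=
  LinearMap.ext fun v => let ⟨x, hx, l⟩ := R.surV v; l ▸ k x hx

theorem act' (h : La z a) (he : e ∈ QQ z) : (ρ (π a) + 1) (χ e) = χ (cm a e) := by
  rw [R.act a h.comm e he, cm_nm h.sq]

theorem ac (h : La z a) (h5 : 512 ≤ Nat.card (QQ z)) (h' : La z c) : Commute (π a) (π c) ∨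
    (ρ (π a) + 1) * (ρ (π c) + 1) + (ρ (π c) + 1) * (ρ (π a) + 1) = 1 := by
  by_cases k : ∀ p ∈ h.U, p ∈ h'.U → Eqv z p 1
  · refine Or.inr (R.ext fun e he => ?_)
    have m1 := h.cm_mem (h'.cm_mem he)
    have m2 := h'.cm_mem (h.cm_mem he)
    rw [LinearMap.add_apply, Module.End.mul_apply, Module.End.mul_apply, R.act' h he, R.act' h' he,
      R.act' h (h'.cm_mem he), R.act' h' (h.cm_mem he), ← R.add _ m1 _ m2]
    exact (R.eqv _ (mul_mem m1 m2) _ he).2 (h.anti_of_disj h5 h' k he)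
  · push Not at k
    obtain ⟨p, p1, p2, n⟩ := k
    have m := (h.cjz h'.comm).comm
    have := (R.ker _ (m.mul_right h.comm)).2 (h.cj_mul_of_meet h5 h' p1 p2 n)
    rw [R.mul _ _ m h.comm, ← R.cj_eq h'.comm h.comm, mul_eq_one_iff_eq_inv, ← R.inv h.comm,
      inv_eq_of_mul_eq_one_right h.sq, cj_eq_self_iff] at this
    exact Or.inl this.symm

theorem sp6 [Finite H] (h : La z a) (h5 : 512 ≤ Nat.card (QQ z)) (hO : pCore 2 H = ⊥) :
    Nonempty (H ≃* Matrix.symplecticGroup (Fin 3) (ZMod 2)) := by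
  have two : ∀ f : Module.End (ZMod 2) V, f + f = 0 := Cl.quad_zmod2_add_self
  have : Nontrivial V := by
    obtain ⟨e, he, f, hf, k⟩ := h.exists_ne
    refine ⟨χ (cm a e), χ 1, fun l => ?_⟩
    rw [bf_eqv_one h.big hf ((R.eqv _ (h.cm_mem he) _ (one_mem _)).1 l)] at k
    exact zero_ne_one k
  have sq : ∀ c, La z c → π c * π c = 1 := fun c k => by rw [← R.mul _ _ k.comm k.comm, k.sq, R.one]
  have ne : ∀ c, La z c → π c ≠ 1 := fun c k l => k.not_mem ((R.ker _ k.comm).1 l)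
  obtain ⟨a', ha', haa⟩ : ∃ c, La z c ∧
      (ρ (π a) + 1) * (ρ (π c) + 1) + (ρ (π c) + 1) * (ρ (π a) + 1) = 1 := by
    by_contra k
    push Not at k
    refine ne a h (eq_one_of_conj_comm hO (sq a h) fun s => ?_)
    obtain ⟨g, hg, rfl⟩ := R.sur s
    rw [R.cj_eq hg h.comm]
    exact (R.ac h h5 (h.cjz hg)).resolve_right (k _ (h.cjz hg))
  have bz : ∀ b ∈ h.sym.U, Commute z b := fun b hb => (h.B_iff.1 hb).2
  let B : Subgroup H :=
    { carrier := {s | ∃ b ∈ h.sym.U, π b = s}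
      one_mem' := ⟨1, one_mem _, R.one⟩
      mul_mem' := by
        rintro _ _ ⟨b, hb, rfl⟩ ⟨b', hb', rfl⟩
        exact ⟨_, mul_mem hb hb', R.mul _ _ (bz b hb) (bz b' hb')⟩
      inv_mem' := by
        rintro _ ⟨b, hb, rfl⟩
        exact ⟨_, inv_mem hb, R.inv (bz b hb)⟩ }
  have cB : Nat.card B = 32 := by
    rw [← h.card_U32 h5, ← h.card_U']
    refine (Nat.card_congr (Equiv.ofBijective (fun b : h.sym.U => (⟨π b, b, b.2, rfl⟩ : B))
      ⟨fun b b' k => Subtype.ext (mul_inv_eq_one.1 ?_), fun ⟨_, b, hb, k⟩ => ⟨⟨b, hb⟩, Subtype.ext k⟩⟩)).symm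
    have m := mul_mem b.2 (inv_mem b'.2)
    refine h.D_one h5 ((R.ker _ (bz _ m)).1 ?_) (h.sym.U_le m)
    rw [R.mul _ _ (bz _ b.2) (bz _ (inv_mem b'.2)), R.inv (bz _ b'.2), mul_inv_eq_one]
    exact congrArg Subtype.val k
  refine sp6_of_cliff ρ R.inj (fun s => ρ s + 1) (fun _ => rfl) (D := {s | ∃ c, La z c ∧ π c = s})
    ?_ ?_ ?_ ?_ ⟨a, h, rfl⟩ ⟨a', ha', rfl⟩ haa B cB ⟨a, h.sym.z_mem_U, rfl⟩ ?_ ?_ ?_
  · rintro s _ ⟨c, hc, rfl⟩
    obtain ⟨g, hg, rfl⟩ := R.sur s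
    exact ⟨_, hc.cjz hg, (R.cj_eq hg hc.comm).symm⟩
  · rintro _ ⟨c, hc, rfl⟩
    exact sq c hc
  · rintro _ ⟨c, hc, rfl⟩
    exact ne c hc
  · rintro _ ⟨c, hc, rfl⟩ _ ⟨d, hd, rfl⟩
    refine (R.ac hc h5 hd).imp_left fun k => ?_
    rw [(((k.map ρ).add_left (Commute.one_left _)).add_right (Commute.one_right _)).eq, two]
  · rintro _ ⟨b, hb, rfl⟩
    refine R.ext fun e he => ?_
    rw [Module.End.mul_apply, R.act' h he, R.act b (bz b hb) _ (h.cm_mem he),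
      nm_eq_one_iff.2 (h.B_A h5 hb (h.cm_mem_U he)), R.zero, LinearMap.zero_apply]
  · rintro _ ⟨b, hb, rfl⟩
    refine R.ext fun e he => ?_
    have m := h.nm_mem_U h5 hb he
    rw [Module.End.mul_apply, R.act b (bz b hb) _ he, R.act' h (h.U_le m),
      (cm_eq_one_iff h.sq).2 (h.U_A h.e0 m), R.zero, LinearMap.zero_apply]
  intro v
  obtain ⟨e, he, rfl⟩ := R.surV v
  simp only [R.act' h he]
  by_cases hn : Commute a e
  · have : ∀ w, (ρ 1 + 1) w = 0 := fun w => by rw [map_one, two, LinearMap.zero_apply]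
    rw [(cm_eq_one_iff h.sq).2 hn, R.zero]
    exact ⟨1, one_mem _, 1, one_mem _, ⟨0, this 0⟩, ⟨0, this 0⟩, fun w _ _ => Or.inl (this w)⟩
  obtain ⟨d1, m1, d2, m2, n1, n2, n3⟩ := (h.sm_cj h5 he hn).exists_D
  obtain ⟨-, -, t1, -, -, b1, -, p1⟩ := h.exists_bl h5 he hn m1.1 m1.2 n1
  obtain ⟨-, -, t2, -, -, b2, -, p2⟩ := h.exists_bl h5 he hn m2.1 m2.2 n2
  have act : ∀ {d : G}, Sm z (d * z) → d ∈ h.sym.U → ∀ g ∈ QQ z, (ρ (π d) + 1) (χ g) = χ (cm (d * z) g) :=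
    fun {d} t k g hg => by
      rw [R.act d (bz d k) g hg, cm_nm t.sq, nm, nm, ← cj_cj, cj_of_commute (h.big.comm (inv_mem hg))]
  have ex : ∀ {d : G} (t : Sm z (d * z)), d ∈ h.sym.U → cm a e ∈ t.U →
      ∃ w, (ρ (π d) + 1) w = χ (cm a e) := fun t k ⟨g, hg, l⟩ =>
    ⟨χ g, (act t k g hg).trans ((R.eqv _ (h.cm_mem he) _ (t.cm_mem hg)).2 l).symm⟩
  refine ⟨_, ⟨d1, b1, rfl⟩, _, ⟨d2, b2, rfl⟩, ex t1 b1 p1, ex t2 b2 p2, fun w w' k => ?_⟩
  obtain ⟨g, hg, rfl⟩ := R.surV w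
  obtain ⟨g', hg', rfl⟩ := R.surV w'
  rw [act t1 b1 g hg] at k ⊢
  rw [act t2 b2 g' hg', R.eqv _ (t1.cm_mem hg) _ (t2.cm_mem hg')] at k
  rw [← R.zero, R.eqv _ (t1.cm_mem hg) _ (one_mem _), R.eqv _ (t1.cm_mem hg) _ (h.cm_mem he)]
  exact h.bl_ne h5 he hn m1.1 m2.1 n3 t1 t2 p1 p2 (t1.cm_mem_U hg) (t2.U_eqv k (t2.cm_mem_U hg'))

end QRep

theorem La.sp6 {G : Type*} [Group G] [Finite G] {z a : G} (h : La z a) (h5 : 512 ≤ Nat.card (QQ z)) :
    Nonempty (centralizer ({z} : Set G) ⧸ pCore 2 (centralizer ({z} : Set G)) ≃*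
      Matrix.symplecticGroup (Fin 3) (ZMod 2)) := by
  have : Fact (Nat.Prime 2) := ⟨Nat.prime_two⟩
  obtain ⟨V, _, _, π, χ, ρ, R⟩ := exists_qrep h.big
  exact R.sp6 h h5 GT.pCore_quotient_pCore

end Cfsg.Agent.Wk
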