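import Mathlib
import Cfsg.Agent.Wk.Small
import Cfsg.Agent.W3.U4

/-! All pairs small: two neighbours of `z`. -/

set_option autoImplicit false
set_option linter.unusedSectionVars false

namespace Cfsg.Agent.Wk

open Cfsg.Agent.Spor Cfsg.Agent.Spor.TT Cfsg.Agent.LX Cfsg.Agent.Gr6 Cfsg.Agent.W3 Subgroup

variable {G : Type*} [Group G] [Finite G] {z a b d e f g p s t u v x y : G}

namespace Uni

theorem U_le_of_mul (h : PW z a) (h' : PW z b) (k : b * a ∈ QQ z) : h'.U ≤ h.U := by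
  rintro x ⟨e, he, l⟩
  exact h.U_eqv (Eqv.trans h.big.sq l (cm_nm h'.sq e ▸ h.nm_eqv h'.comm k he)) (h.cm_mem_U he)

theorem mul_swap (h : PW z a) (h' : PW z b) (k : b * a ∈ QQ z) : a * b ∈ QQ z := by
  have := inv_mem k
  rwa [mul_inv_rev, inv_eq_of_mul_eq_one_right h.sq, inv_eq_of_mul_eq_one_right h'.sq] at this

theorem mem_line (h : Sm z a) (h' : Sm z b) (k : b * a ∈ QQ z) : b ∈ Line z a :=
  Or.inr (h.exists_cj h'.nb h'.e0 k)

theorem mul_mem_of_line (h : PW z a) (hb : b ∈ Line z a) (n : b ≠ z) : b * a ∈ QQ z := by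
  obtain ⟨e, he, rfl⟩ := hb.resolve_left n
  exact h.cm_mem he

theorem comm_of_mul (h : Sm z a) (h' : Sm z b) (k : b * a ∈ QQ z) : Commute a b :=
  h.comm_line _ (right_mem_Line z a) _ (mem_line h h' k)

/-- An element of `C(z)` centralising `U` commutes with `a`. -/
theorem comm_of_U (h : Sm z a) (hg : Commute z g) (hU : ∀ u ∈ h.U, Commute g u) : Commute g a :=
  h.comm_of_cent hU (mem_line h (h.cjz hg) (h.mul_mem_of_le (h.cjz hg) fun u hu =>
    cj_of_commute (hU u hu) ▸ h.cj_U hg hu))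

theorem exists_U (h : PW z a) : ∃ u ∈ h.U, ¬ Eqv z u 1 := by
  obtain ⟨e, he, f, hf, l⟩ := h.exists_ne
  refine ⟨_, h.cm_mem_U he, fun c => ?_⟩
  rw [h.big.es.aes.bf_eqv_right hf c, bf_z h.big hf (Or.inl rfl)] at l
  exact zero_ne_one l

theorem exists_fixed (h : Sm z a) (ss : s * s = 1) (e : cj s z = a) :
    ∃ t ∈ Line z a, cj s t = t := by
  have inv : ∀ x, cj s (cj s x) = x := fun x => by rw [cj_cj, ss, cj_one]
  have e' : cj s a = z := by rw [← e, inv]
  obtain ⟨p, q, r, nd, hL, hp, hq, hr, -, hc⟩ := h.line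
  simp only [List.nodup_cons, List.mem_cons, List.not_mem_nil, or_false, not_or] at nd
  have mp : ∀ x ∈ Line z a, x ≠ z → x ≠ a → cj s x = p ∨ cj s x = q ∨ cj s x = r := by
    intro x hx h1 h2
    have k := cj_mem_Line (g := s) hx
    rw [e, e', h.line_symm, hL] at k
    rcases k with k | k | k
    · exact absurd (by rw [← inv x, k, e]) h2
    · exact absurd (by rw [← inv x, k, e']) h1
    · exact k
  have mp' : p ∈ Line z a := by rw [hL]; simp
  have mq' : q ∈ Line z a := by rw [hL]; simp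
  have mr' : r ∈ Line z a := by rw [hL]; simp
  rcases mp p mp' (Ne.symm nd.1.2.1) (Ne.symm nd.2.1.1) with k | k | k
  · exact ⟨p, mp', k⟩
  · refine ⟨r, mr', ?_⟩
    rcases mp r mr' (Ne.symm nd.1.2.2.2) (Ne.symm nd.2.1.2.2) with l | l | l
    · exact absurd (by rw [← inv r, l, k]) (Ne.symm nd.2.2.2.1)
    · exact absurd (cj_inj.1 (k.trans l.symm)) nd.2.2.1.2
    · exact l
  · refine ⟨q, mq', ?_⟩
    rcases mp q mq' (Ne.symm nd.1.2.2.1) (Ne.symm nd.2.1.2.1) with l | l | l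
    · exact absurd (by rw [← inv q, l, k]) nd.2.2.2.1
    · exact l
    · exact absurd (cj_inj.1 (k.trans l.symm)) nd.2.2.1.1

theorem exists_compl (h : Sm z a) (ht : t ∈ Line z a) (h1 : t ≠ z) (h2 : t ≠ a) :
    ∃ q ∈ Line z a, ∃ r ∈ Line z a, q ≠ r ∧ z * a * t = q * r ∧ (q ≠ z ∧ q ≠ a ∧ q ≠ t) ∧
      ∀ x ∈ Line z a, x = z ∨ x = a ∨ x = t ∨ x = q ∨ x = r := by
  obtain ⟨p, q, r, nd, hL, hp, hq, hr, hm, hc⟩ := h.line
  simp only [List.nodup_cons, List.mem_cons, List.not_mem_nil, or_false, not_or] at nd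
  have mp : p ∈ Line z a := by rw [hL]; simp
  have mq : q ∈ Line z a := by rw [hL]; simp
  have mr : r ∈ Line z a := by rw [hL]; simp
  have e : z * a = p * q * r := by
    rw [h.comm.eq, ← hm, ← mul_assoc, ← mul_assoc, ← mul_assoc, h.sq, one_mul]
  have all : ∀ x ∈ Line z a, x = z ∨ x = a ∨ x = p ∨ x = q ∨ x = r := fun x hx => by
    rwa [hL] at hx
  rcases ((all t ht).resolve_left h1).resolve_left h2 with rfl | rfl | rfl
  · refine ⟨q, mq, r, mr, nd.2.2.2.1, ?_,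
      ⟨Ne.symm nd.1.2.2.1, Ne.symm nd.2.1.2.1, Ne.symm nd.2.2.1.1⟩, all⟩
    rw [e, mul_assoc t, ← ((hc _ mp _ mq).mul_right (hc _ mp _ mr)).eq.symm, mul_assoc,
      h.sq_conj hp.1, mul_one]
  · refine ⟨p, mp, r, mr, nd.2.2.1.2, ?_, ⟨Ne.symm nd.1.2.1, Ne.symm nd.2.1.1, nd.2.2.1.1⟩,
      fun x hx => by have := all x hx; tauto⟩
    rw [e, mul_assoc p, (hc _ mq _ mr).eq, ← mul_assoc, mul_assoc _ t, h.sq_conj hq.1, mul_one]
  · exact ⟨p, mp, q, mq, nd.2.2.1.1, by rw [e, mul_assoc, h.sq_conj hr.1, mul_one],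
      ⟨Ne.symm nd.1.2.1, Ne.symm nd.2.1.1, nd.2.2.1.2⟩, fun x hx => by have := all x hx; tauto⟩

end Uni

open Uni

namespace AllS

variable (H : AllS z)
include H

theorem sm (ha : a ∈ Nb z) : Sm z a := H z (IsConj.refl z) a ha

theorem sm' (hx : IsConj z x) (hy : IsConj z y) (n : y ≠ x) (c : Commute x y) : Sm x y :=
  H x hx y ⟨hx.symm.trans hy, n, c⟩

theorem inter_core (h : Sm z a) (h' : Sm z b) (hu : u ∈ QQ z) (ua : u ∈ QQ a) (ub : u ∈ QQ b)
    (u1 : u ≠ 1) : b * a ∈ QQ z := by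
  by_contra hn
  have n : ¬ Eqv z u 1 := by
    rintro (l | l)
    exacts [u1 l, h.D_ne ua (l.trans (mul_one z))]
  have c : Commute b a := comm_of_U h h'.comm fun x hx => h'.A_of_C h'.e0 (h.U_le hx) fun y hy =>
    (h.perp h' H.allC (h.D_U h.e0 hu ua) (h'.D_U h'.e0 hu ub) n hx hy).symm
  have k := H.sm' h.nb.1 h'.nb.1 (fun l => hn (by rw [l, h.sq]; exact one_mem _)) c.symm
  have nz : z ∉ Line a b := fun l => hn (mul_mem_of_line h.toPW (by
    rw [(k.pt l (left_mem_Line a b) h.nb.2.1.symm).2]; exact right_mem_Line a b) h'.nb.2.1)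
  obtain ⟨e, he, l⟩ := k.D_of_zero k.e0 ua ub u1
  have mq : cj e b ∈ Line a b := Or.inr ⟨e, he, rfl⟩
  have cq := k.comm_line _ mq _ (right_mem_Line a b)
  have l' : a * b * cj e b = u := by rw [l, cm, cq.eq, mul_assoc]
  obtain ⟨q, hq, r, hr, qr, e1, ⟨q1, q2, q3⟩, all⟩ := exists_compl k mq
    (k.cjz (k.big.comm he)).nb.2.1 fun m => h.not_mem (by
      rwa [← l', m, mul_assoc, h'.sq, mul_one] at hu)
  rw [l'] at e1
  have za := cj_of_commute h.comm
  have zb := cj_of_commute h'.comm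
  have zq : cj z (cj e b) = cj e b := by
    have := cj_of_commute (h.big.comm hu)
    rwa [← l', cj_mul, cj_mul, za, zb, mul_right_inj] at this
  have qq := k.sq_conj (k.isConj_of_line hq)
  have cz : Commute z q := by
    have m := cj_mem_Line (g := z) hq
    rw [za, zb] at m
    rcases all _ m with m | m | m | m | m
    · exact absurd (cj_inj.1 (m.trans za.symm)) q1
    · exact absurd (cj_inj.1 (m.trans zb.symm)) q2
    · exact absurd (cj_inj.1 (m.trans zq.symm)) q3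
    · exact cj_eq_self_iff.1 m
    have : cj q z = u * z := by
      rw [e1, ← m, cj_def, cj_def, inv_eq_of_mul_eq_one_right qq, h.big.es.z_inv]
      simp only [mul_assoc, h.big.sq, mul_one]
    exact absurd (mul_eq_right.1 (this ▸ h.wc _ (LX.isConj_cj q z)
      (this ▸ mul_mem hu h.big.z_mem))) u1
  have dq := h.nb.1.trans (k.isConj_of_line hq)
  have dr := h.nb.1.trans (k.isConj_of_line hr)
  have kq := H.sm ⟨dq, fun l => nz (l ▸ hq), cz⟩
  have kr := H.sm ⟨dr, fun l => nz (l ▸ hr), by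
    have := cz.mul_right (h.big.comm hu)
    rwa [e1, ← mul_assoc, qq, one_mul] at this⟩
  have m := mem_line kq kr (by rw [(k.comm_line _ hr _ hq).eq, ← e1]; exact hu)
  exact nz (by
    rw [← (k.pt hq hr qr).2, (kq.pt (right_mem_Line z q) m qr).2]; exact left_mem_Line z q)

/-- Different lines through `z` have disjoint subgroups `U / ⟨z⟩`. -/
theorem inter (h : Sm z a) (h' : Sm z b) (hu : u ∈ h.U) (hu' : u ∈ h'.U) (n : ¬ Eqv z u 1) :
    b * a ∈ QQ z := by
  have uq := h.U_le hu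
  obtain ⟨e, he, c⟩ := h.big.es.exists_not_comm uq (fun l => n (Or.inl l))
    fun l => n (Or.inr (l.trans (mul_one z).symm))
  have key : ∀ {x : G} (k : Sm z x), u ∈ k.U → ∃ q ∈ QQ z, u ∈ QQ (cj q x) := fun k m =>
    (k.U_D m).elim (fun l => ⟨1, one_mem _, by rwa [cj_one]⟩) fun l => ⟨e, he, by
      have := cj_mem_QQ (g := e).2 l
      rwa [cj_mul, cj_of_commute (h.big.comm he).symm, cj_def e u,
        h.big.es.aes.conj_of_ne he uq (Ne.symm c), h.big.es.z_mul_z_mul] at this⟩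
  obtain ⟨q, hq, k⟩ := key h hu
  obtain ⟨q', hq', k'⟩ := key h' hu'
  have h1 := h.cjz (h.big.comm hq)
  have h2 := h'.cjz (h.big.comm hq')
  have m := H.inter_core h1 h2 uq k k' fun l => n (Or.inl l)
  have m1 := mul_swap h.toPW h1.toPW (h.cm_mem hq)
  have m2 := mul_swap h'.toPW h2.toPW (h'.cm_mem hq')
  have := mul_mem (mul_mem m2 m) (mul_swap h1.toPW h.toPW m1)
  rwa [mul_assoc b, ← mul_assoc (cj q' b), h2.sq, one_mul, mul_assoc, ← mul_assoc (cj q a), h1.sq,
    one_mul] at this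

/-- If `b` normalises `U` without being on the line then it centralises `U`. -/
theorem cent_of_norm (h : Sm z a) (h' : Sm z b) (n : b * a ∉ QQ z)
    (k : ∀ u ∈ h.U, cj b u ∈ h.U) (hu : u ∈ h.U) : Commute b u :=
  h'.comm_of_eqv h'.e0 (h.U_le hu) (by_contra fun l => n (H.inter h h'
    (cm_eq b u h'.sq ▸ mul_mem hu (k _ (inv_mem hu))) (h'.cm_mem_U (h.U_le hu)) l))

theorem cent_U (h : Sm z a) (h' : Sm z b) (c : Commute a b) (hu : u ∈ h.U) : Commute b u := by
  by_cases n : b * a ∈ QQ z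
  · exact h'.U_A h'.e0 (U_le_of_mul h'.toPW h.toPW (c.eq ▸ n) hu)
  · exact H.cent_of_norm h h' n (fun _ => h.cj_mem_U h'.comm c) hu

theorem nd (h : Sm z a) (h' : Sm z b) (n : ¬ Commute a b) (hv : v ∈ h.U) (c : Commute b v) :
    Eqv z v 1 := by
  by_contra k
  have h1 := h.cjz h'.comm
  have m := H.inter h h1 hv (cj_of_commute c ▸ h.cj_U h'.comm hv) k
  exact n (comm_of_U h h'.comm fun u => H.cent_of_norm h h' (fun l => n (comm_of_mul h h' l))
    fun w hw => U_le_of_mul h.toPW h1.toPW m (h.cj_U h'.comm hw)).symm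

theorem three (ha : a ∈ Nb z) (hb : b ∈ Nb z) (hn : ¬ Commute a b) : (a * b) ^ 3 = 1 := by
  have h := H.sm ha
  have h' := H.sm hb
  have ia := inv_eq_of_mul_eq_one_right h.sq
  have ib := inv_eq_of_mul_eq_one_right h'.sq
  obtain ⟨w, hw, n1⟩ := exists_U h'.toPW
  have wq := h'.U_le hw
  have n2 : ¬ Commute a w := fun c => n1 (H.nd h' h (fun c => hn c.symm) hw c)
  have hu := h.cm_mem_U wq
  have uq := h.U_le hu
  have n3 : ¬ Commute b (cm a w) := fun c => n2 (h.comm_of_eqv h.e0 wq (H.nd h h' hn hu c))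
  have c : Commute w (cm a w) := bf_eq_zero.1 (h.alt h.e0 wq)
  have e1 : Eqv z (cj a w) (cj b (cm a w)) := by
    refine (h.eqv_cj wq).trans h.big.sq (Eqv.symm h.big.sq ((h'.eqv_cj uq).trans h.big.sq ?_))
    rw [c.eq]
    exact (h'.cm_eqv uq hw n1 c.symm n3).mul_left (h.big.comm uq).eq
  have h1 := h.cjz h'.comm
  have h2 := h'.cjz h.comm
  have m := H.inter h1 h2 (h1.U_eqv e1 (h.cj_U h'.comm hu)) (h'.cj_U h.comm hw) fun l => n1 (by
    have := l.conj (w := a) h.comm.eq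
    rwa [← cj_def, ← cj_def, cj_cj, h.sq, cj_one, cj_one_right] at this)
  obtain ⟨e, he, k⟩ := h1.exists_cj h2.nb h2.e0 m
  have e2 : (a * b) ^ 3 = cm (cj b a) e := by
    rw [cm, k, cj_def, cj_def, ia, ib]
    simp only [pow_succ, pow_zero, one_mul, mul_assoc]
  have k1 : cj b ((a * b) ^ 3) = ((a * b) ^ 3)⁻¹ := by
    rw [cj_pow, ← inv_pow, mul_inv_rev, ia, ib, cj_def, ib, mul_assoc, mul_assoc, h'.sq, mul_one]
  have k2 := h1.U_sq h1.e0 (h1.cm_mem_U he)
  rw [e2, inv_eq_of_mul_eq_one_right k2, cj_eq_self_iff] at k1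
  rw [e2, cm_eq_one_iff h1.sq]
  exact h1.comm_of_eqv h1.e0 he (H.nd h1 h'
    (fun c => hn ((commute_cj_left_of (Commute.refl b)).1 c)) (h1.cm_mem_U he) k1)

/-- If `C_Q(y)` is contained in `C_Q(x)` then `x` and `y` are collinear with `z`. -/
theorem exists_sep (h : Sm z x) (h' : Sm z y) (n : y * x ∉ QQ z) :
    ∃ e ∈ QQ z, Commute y e ∧ ¬ Commute x e := by
  by_contra k
  push Not at k
  exact n (h.mul_mem_of_le h' fun v hv => h'.mem_U_of_A h'.e0 (h.U_le hv) fun w hw c =>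
    (h.A_U hw (k w hw c) hv).symm)

theorem tri (ha : a ∈ Nb z) (hx : x ∈ Nb z) (hy : y ∈ Nb z) : a * x * y ∉ QQ z := by
  intro k
  have h := H.sm ha
  have h1 := H.sm hx
  have h2 := H.sm hy
  obtain ⟨e, he, c, n⟩ := H.exists_sep h1 h2 fun l => h.not_mem (by
    simpa [mul_assoc] using mul_mem k (inv_mem (mul_swap h1.toPW h2.toPW l)))
  have k1 : x * y * a ∈ QQ z := by
    have := h.big.cj_mem h.comm k
    rwa [cj_def, inv_eq_of_mul_eq_one_right h.sq, ← mul_assoc, ← mul_assoc, h.sq, one_mul] at this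
  have k2 := h.nm_eqv (h1.comm.mul_right h2.comm) k1 he
  rw [nm, ← cj_cj, cj_of_commute c.inv_right, ← cm_eq x e h1.sq] at k2
  have := H.inter h1 h (h1.cm_mem_U he) (h.U_eqv k2 (h.cm_mem_U he))
    fun l => n (h1.comm_of_eqv h1.e0 he l)
  exact h2.not_mem (by simpa [mul_assoc] using mul_mem (inv_mem this) k)

theorem two (ha : a ∈ Nb z) (hx : x ∈ Nb z) (hy : y ∈ Nb z) : z * a ≠ x * y := fun e =>
  H.tri ha hx hy (by
    rw [mul_assoc, ← e, (H.sm ha).comm.eq, ← mul_assoc, (H.sm ha).sq, one_mul]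
    exact (H.sm ha).big.z_mem)

/-- No conjugate of `z` swaps two commuting conjugates. -/
theorem noswap (h : Sm z a) (hs : IsConj z s) : cj s z ≠ a := by
  intro e
  have ss := h.sq_conj hs
  obtain ⟨t, ht, hf⟩ := exists_fixed h ss e
  have tz : t ≠ z := by rintro rfl; exact h.nb.2.1 (e.symm.trans hf)
  have n : ¬ Commute z s := fun c => h.nb.2.1 (e.symm.trans (cj_of_commute c.symm))
  have k := (h.pt ht (left_mem_Line z a) tz).1
  have h2 : (z * s) ^ 2 = z * a := by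
    rw [← e, cj_def, inv_eq_of_mul_eq_one_right ss, pow_two]; simp only [mul_assoc]
  have h3 := (H.of_isConj (h.isConj_of_line ht)).three k.nb ⟨k.nb.1.trans hs,
    fun l => n (l ▸ k.comm.symm), (cj_eq_self_iff.1 hf).symm⟩ n
  rw [pow_succ, h2, h.comm.eq, mul_assoc, h.big.es.z_mul_z_mul, mul_eq_one_iff_eq_inv,
    inv_eq_of_mul_eq_one_right ss] at h3
  exact n (h3 ▸ h.comm)

theorem commute_line (h : Sm z a) (hy : IsConj z y) (c1 : Commute z y) (c2 : Commute a y)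
    (hp : p ∈ Line z a) : Commute p y := by
  by_cases e : y = z
  · exact e ▸ h.comm_line _ hp _ (left_mem_Line z a)
  rcases hp with rfl | ⟨q, hq, rfl⟩
  · exact c1
  rw [cj_eq_cm h.sq]
  exact (H.cent_U h (H.sm ⟨hy, e, c1⟩) c2 (h.cm_mem_U hq)).symm.mul_left c2

end AllS

end Cfsg.Agent.Wk
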