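import Mathlib
import Cfsg.Agent.Wk.UniA

/-! All pairs small: the centraliser of the product of two commuting conjugates. -/

set_option autoImplicit false
set_option linter.unusedSectionVars false

namespace Cfsg.Agent.Wk

open Cfsg.Agent.Spor Cfsg.Agent.Spor.TT Cfsg.Agent.LX Cfsg.Agent.Gr6 Cfsg.Agent.W3 Subgroup Uni

variable {G : Type*} [Group G] [Finite G] {z a b d e f g p q r s t u v x y : G}

namespace AllS

variable (H : AllS z)
include H

omit H in
theorem odd_cent (h : Sm z a) {K : Subgroup G} (hK : Odd (Nat.card K))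
    (hc : ∀ k ∈ K, Commute (z * a) k) (hn : ∀ g, Commute (z * a) g → ∀ k ∈ K, g * k * g⁻¹ ∈ K) :
    K = ⊥ := by
  obtain ⟨p, q, r, nd, hL, hp, hq, hr, hm, hl⟩ := h.line
  simp only [List.nodup_cons, List.mem_cons, List.not_mem_nil, or_false, not_or] at nd
  have uu : z * a * (z * a) = 1 := by
    rw [← pow_two, h.comm.mul_pow, pow_two, pow_two, h.big.sq, h.sq, one_mul]
  have key : ∀ t ∈ Line z a, t ≠ z → t ≠ a → ∀ k ∈ K, t * k * t⁻¹ = k⁻¹ := by
    intro t ht tz ta
    have hb := h.big.of_isConj (h.isConj_of_line ht)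
    have hu := h.mul_mem_Q ht tz ta
    refine inverts_of_fpf hb.sq (hn t (hb.comm hu).symm) fun k hk c => ?_
    refine eq_one_of_odd_of_isPGroup hK hb.es.isPGroup hk (hb.lg.triv k c fun y hy => ?_)
    refine (hb.es.comm_of_centralizes hu (fun x hx => hb.cj_mem c hx) (fun x hx e => ?_)
      hy).resolve_right fun l => hb.ne_one (l.2.2.symm.trans uu)
    have m1 : k * x * k⁻¹ * x⁻¹ ∈ K := by
      rw [mul_assoc, mul_assoc, ← mul_assoc x]
      exact K.mul_mem hk (hn x e.symm _ (inv_mem hk))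
    have m2 : k * x * k⁻¹ * x⁻¹ ∈ QQ t := Subgroup.mul_mem _ (hb.cj_mem c hx) (inv_mem hx)
    exact (commutatorElement_eq_one_iff_commute.1
      (eq_one_of_odd_of_isPGroup hK hb.es.isPGroup m1 m2)).eq
  have kp := key p (by rw [hL]; simp) (Ne.symm nd.1.2.1) (Ne.symm nd.2.1.1)
  have kq := key q (by rw [hL]; simp) (Ne.symm nd.1.2.2.1) (Ne.symm nd.2.1.2.1)
  have kr := key r (by rw [hL]; simp) (Ne.symm nd.1.2.2.2) (Ne.symm nd.2.1.2.2)
  have e : z * a = p * q * r := by
    rw [h.comm.eq, ← hm, ← mul_assoc, ← mul_assoc, ← mul_assoc, h.sq, one_mul]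
  rw [eq_bot_iff]
  intro k hk
  refine eq_one_of_odd_of_sq hK hk ?_
  have e1 : (z * a) * k * (z * a)⁻¹ = k⁻¹ := by
    calc (z * a) * k * (z * a)⁻¹ = p * (q * (r * k * r⁻¹) * q⁻¹) * p⁻¹ := by rw [e]; group
      _ = k⁻¹ := by rw [kr k hk, kq _ (inv_mem hk), inv_inv, kp k hk]
  rw [(hc k hk).eq, mul_inv_cancel_right] at e1
  exact mul_eq_one_iff_eq_inv.2 e1

/-- The centraliser of `z a` permutes `z` and `a` (Z*-theorem in `C(z a) / ⟨z a⟩`). -/
theorem cent_mul (h : Sm z a) {g : G} (hg : Commute (z * a) g) :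
    cj g z = z ∨ cj g z = a := by
  have zz := h.big.sq
  have aa := h.sq
  have uu : z * a * (z * a) = 1 := by
    rw [← pow_two, h.comm.mul_pow, pow_two, pow_two, zz, aa, one_mul]
  let C := centralizer ({z * a} : Set G)
  have mC : ∀ {x : G}, x ∈ C ↔ Commute (z * a) x := mem_centralizer_singleton
  let u : C := ⟨z * a, mC.2 (Commute.refl _)⟩
  have uc : zpowers u ≤ center C := zpowers_le.2 (mem_center_iff.2 fun x =>
    Subtype.ext (mC.1 x.2).symm.eq)
  have : (zpowers u).Normal := ⟨fun n hn x => by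
    rwa [mem_center_iff.1 (uc hn) x, mul_inv_cancel_right]⟩
  have mu : ∀ x : C, (x : C ⧸ zpowers u) = 1 ↔ (x : G) = 1 ∨ (x : G) = z * a := fun x => by
    rw [QuotientGroup.eq_one_iff, mem_zpowers_iff_of_sq (Subtype.ext uu), Subtype.ext_iff,
      Subtype.ext_iff]
    rfl
  let y : C := ⟨z, mC.2 ((Commute.refl z).mul_left h.comm.symm)⟩
  have za : z * (z * a) = a := by rw [← mul_assoc, zz, one_mul]
  have iso : IsIsolatedInvolution (y : C ⧸ zpowers u) := by
    refine ⟨orderOf_eq_two_iff'.2 ⟨fun k => ?_, ?_⟩, fun c hc => ?_⟩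
    · rcases (mu y).1 k with k | k
      · exact h.big.ne_one k
      · exact h.symm.big.ne_one (left_eq_mul.1 k)
    · rw [← QuotientGroup.mk_mul, mu]; exact Or.inl zz
    obtain ⟨c, rfl⟩ := QuotientGroup.mk_surjective c
    have cu := mC.1 c.2
    have k := commutatorElement_eq_one_iff_commute.2 hc
    rw [commutatorElement_def] at k
    simp only [← QuotientGroup.mk_mul, ← QuotientGroup.mk_inv] at k ⊢
    rw [mu] at k
    rw [← mul_inv_eq_one, ← QuotientGroup.mk_inv, ← QuotientGroup.mk_mul, mu]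
    change z * cj (c : G) z * z⁻¹ * (cj (c : G) z)⁻¹ = 1 ∨
      z * cj (c : G) z * z⁻¹ * (cj (c : G) z)⁻¹ = z * a at k
    change cj (c : G) z * z⁻¹ = 1 ∨ cj (c : G) z * z⁻¹ = z * a
    have c1 := LX.isConj_cj (c : G) z
    have e : z * a = cj (c : G) z * cj (c : G) a := by rw [← cj_mul, cj_of_commute cu.symm]
    have c2 : IsConj z (cj (c : G) a) := h.nb.1.trans (LX.isConj_cj _ _)
    have c3 : Commute (cj (c : G) z) (cj (c : G) a) := commute_cj.2 h.comm
    generalize cj (c : G) z = z' at *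
    generalize cj (c : G) a = a' at *
    have s1 := h.sq_conj c1
    rcases k with k | k
    · have c4 : Commute z z' := commutatorElement_eq_one_iff_commute.1 k
      by_cases k1 : z' = z
      · exact Or.inl (by rw [k1, mul_inv_cancel])
      by_cases k2 : a' = z
      · exact Or.inr (by rw [e, k2, h.big.es.z_inv])
      refine absurd e (H.two h.nb ⟨c1, k1, c4⟩ ⟨c2, k2, ?_⟩)
      have : a' = z' * (z * a) := by rw [e, ← mul_assoc, s1, one_mul]
      rw [this]
      exact c4.mul_right ((Commute.refl z).mul_right h.comm)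
    · refine absurd ?_ (H.noswap h c1)
      rw [mul_assoc, mul_assoc, mul_left_cancel_iff, h.big.es.z_inv, ← mul_assoc] at k
      exact k
  have hO : oddCore C = ⊥ := by
    have := odd_cent h (K := (oddCore C).map C.subtype)
      (by rw [card_map_of_injective (subtype_injective _)]; exact GT.odd_card_oddCore)
      (by rintro _ ⟨k, -, rfl⟩; exact mC.1 k.2)
      (by
        rintro g hg _ ⟨k, hk, rfl⟩
        exact ⟨_, (inferInstance : (oddCore C).Normal).conj_mem k hk ⟨g, mC.2 hg⟩, rfl⟩)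
    exact (map_eq_bot_iff_of_injective _ (subtype_injective _)).1 this
  have hO' : oddCore (C ⧸ zpowers u) = ⊥ := by
    rw [eq_bot_iff]
    intro k hk
    obtain ⟨k, rfl⟩ := QuotientGroup.mk_surjective k
    have ho : Odd (orderOf (k : C ⧸ zpowers u)) :=
      Odd.of_dvd_nat GT.odd_card_oddCore (orderOf_dvd_natCard _ hk)
    have h1 := pow_orderOf_eq_one (k : C ⧸ zpowers u)
    generalize orderOf (k : C ⧸ zpowers u) = m at ho h1
    have h2 : (k ^ m) ^ 2 = 1 := by
      rw [← QuotientGroup.mk_pow, mu] at h1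
      apply Subtype.ext
      rw [pow_two]
      rcases h1 with h1 | h1 <;> rw [coe_mul, h1]
      exacts [one_mul _, uu]
    have h3 : ((k ^ (m + 1) : C) : C ⧸ zpowers u) = k := by
      rw [QuotientGroup.mk_pow, pow_succ, h1, one_mul]
    obtain ⟨j, hj⟩ := ho.add_one
    have h4 : (k ^ (m + 1)) ^ m = 1 := by
      rw [← pow_mul, mul_comm, pow_mul, hj, ← two_mul, pow_mul, h2, one_pow]
    have := Blk.ZStar.eq_one_of_mem_oddCore_quotient hO (zpowers u) uc
      (Odd.of_dvd_nat ho (orderOf_dvd_of_pow_eq_one h4)) (h3.symm ▸ hk)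
    rw [← h3, this]
    rfl
  have k := mem_center_iff.1 (iso.mem_center hO') ((⟨g, mC.2 hg⟩ : C) : C ⧸ zpowers u)
  rw [← mul_inv_eq_iff_eq_mul, ← mul_inv_eq_one] at k
  simp only [← QuotientGroup.mk_mul, ← QuotientGroup.mk_inv] at k
  rw [mu] at k
  change cj g z * z⁻¹ = 1 ∨ cj g z * z⁻¹ = z * a at k
  refine k.imp mul_inv_eq_one.1 fun k => ?_
  rw [mul_inv_eq_iff_eq_mul.1 k, mul_assoc, ← h.comm.eq, za]

/-- A conjugate of `z` that commutes with `z a` commutes with `z`. -/
theorem commute_of_mul (h : Sm z a) {s : G} (hs : IsConj z s)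
    (hg : Commute (z * a) s) : Commute z s :=
  (cj_eq_self_iff.1 ((H.cent_mul h hg).resolve_right (H.noswap h hs))).symm

end AllS

end Cfsg.Agent.Wk
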