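import Mathlib
import Cfsg.Agent.Wk.UniB
import Cfsg.Agent.W3.U5

/-! All pairs small: the class of `z` is a set of 3-transpositions of unitary type. -/

set_option autoImplicit false
set_option linter.unusedSectionVars false

namespace Cfsg.Agent.Wk

open Cfsg.Agent.Spor Cfsg.Agent.Spor.TT Cfsg.Agent.LX Cfsg.Agent.Gr6 Cfsg.Agent.W3 Cfsg.Agent.Cl
  Subgroup Uni

variable {G : Type*} [Group G] [Finite G] {z a b d e f g p q r s t u v x y : G}

namespace AllS

variable (H : AllS z)
include H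

theorem four (hr : Sm z r) (ht : Sm z t) (hx : Sm z x) (hy : Sm z y) (xy : Commute x y)
    (k : x * y * r * t ∈ QQ z) : t * r ∈ QQ z ∨ t * x ∈ QQ z ∨ t * y ∈ QQ z := by
  by_contra hn
  simp only [not_or] at hn
  obtain ⟨n1, n2, n3⟩ := hn
  have zz := hr.big.sq
  have aes := hr.big.es.aes
  have add : ∀ g ∈ QQ z, Commute r g → Eqv z (cm t g) (cm x g * cm y g) := fun g hg c => by
    have := ht.nm_eqv ((hx.comm.mul_right hy.comm).mul_right hr.comm) k hg
    rw [nm, ← cj_cj, ← cj_cj, cj_of_commute c.inv_right] at this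
    refine Eqv.trans zz (this.symm zz) (Or.inl ?_)
    rw [← cj_of_commute (H.cent_U hy hx xy.symm (hy.cm_mem_U hg)), cm_eq x g hx.sq,
      cm_eq y g hy.sq]
    simp only [cj_mul, cj_inv, mul_assoc, inv_mul_cancel_left]
  have key : ∀ g ∈ QQ z, Commute r g → ¬ Commute t g → ¬ Commute x g ∧ ¬ Commute y g :=
    fun g hg c n => by
      have l := add g hg c
      have n' : ¬ Eqv z (cm t g) 1 := fun l => n (ht.comm_of_eqv ht.e0 hg l)
      refine ⟨fun c' => n3 ?_, fun c' => n2 ?_⟩
      · rw [(cm_eq_one_iff hx.sq).2 c', one_mul] at l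
        exact H.inter hy ht (hy.U_eqv l (hy.cm_mem_U hg)) (ht.cm_mem_U hg) n'
      · rw [(cm_eq_one_iff hy.sq).2 c', mul_one] at l
        exact H.inter hx ht (hx.U_eqv l (hx.cm_mem_U hg)) (ht.cm_mem_U hg) n'
  obtain ⟨e, he, c, n⟩ := H.exists_sep ht hr fun l => n1 (mul_swap ht.toPW hr.toPW l)
  obtain ⟨f, hf, c', n'⟩ : ∃ f ∈ QQ z, Commute r f ∧ ¬ Commute f (cm t e) := by
    by_contra l
    push Not at l
    exact n1 (H.inter hr ht (hr.mem_U_of_A hr.e0 (ht.cm_mem he) l) (ht.cm_mem_U he)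
      fun l => n (ht.comm_of_eqv ht.e0 he l))
  have b1 : bf f (cm t e) = 1 := bf_eq_one.2 n'
  have b2 : bf e (cm t f) = 1 := by rw [ht.bf_cm_symm hf he, b1]
  have nt : ∀ g ∈ QQ z, bf e (cm t g) = 1 → ¬ Commute t g := fun g hg l c => by
    rw [(cm_eq_one_iff ht.sq).2 c, bf_z hr.big he (Or.inl rfl)] at l
    exact zero_ne_one l
  have k1 := key e he c n
  have k2 := key f hf c' (nt f hf b2)
  have k3 := key _ (mul_mem he hf) (c.mul_right c') (nt _ (mul_mem he hf) (by
    rw [ht.bf_cm_mul he hf he, ht.alt ht.e0 he, b2, zero_add]))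
  have fin : ∀ {w : G} (hw : Sm z w), ¬ Commute w e → ¬ Commute w f → ¬ Commute w (e * f) →
      bf f (cm w e) = 1 := fun {w} hw m1 m2 m3 => bf_eq_one.2 fun l => by
    have := hw.cm_eqv hf (hw.cm_mem_U he) (fun l => m1 (hw.comm_of_eqv hw.e0 he l)) l m2
    refine m3 (hw.comm_of_eqv hw.e0 (mul_mem he hf) ((hw.cm_mul_eqv he hf).trans zz ?_))
    rw [← hw.U_sq hw.e0 (hw.cm_mem_U he)]
    exact this.mul_left (hr.big.comm (hw.cm_mem he)).eq
  rw [aes.bf_eqv_right hf (add e he c), aes.bf_mul_right (hx.cm_mem he) (hy.cm_mem he) hf,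
    fin hx k1.1 k2.1 k3.1, fin hy k1.2 k2.2 k3.2] at b1
  exact absurd b1 (by decide)

theorem three_aux (hr : Sm z r) (ht : Sm z t) (hx : Sm z x) (hy : Sm z y) (rt : Commute r t)
    (n : t * r ∉ QQ z) (e : z * r * t = x * y) (rx : Commute r x) : t * x ∉ QQ z := by
  intro k
  obtain ⟨c, hc, k1⟩ := ht.exists_cj hx.nb hx.e0 (mul_swap hx.toPW ht.toPW k)
  obtain ⟨c', hc', k2⟩ := hr.exists_cj hy.nb hy.e0 (by
    have : y * r = (t * x)⁻¹ * z := by
      rw [eq_inv_mul_iff_mul_eq, mul_assoc, ← mul_assoc x, ← e, mul_assoc, ← rt.eq,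
        mul_assoc z, ← mul_assoc r, hr.sq, one_mul, ← mul_assoc, ← ht.comm.eq, mul_assoc, ht.sq,
        mul_one]
    exact this ▸ mul_mem (inv_mem k) hr.big.z_mem)
  have u1 := ht.cm_mem_U hc
  have u2 := hr.cm_mem_U hc'
  rw [← k1, ← k2, cj_eq_cm ht.sq, cj_eq_cm hr.sq, mul_assoc _ t, ← mul_assoc t,
    (H.cent_U hr ht rt u2).eq, mul_assoc _ t, ← rt.eq, ← mul_assoc, mul_assoc z,
    mul_left_inj] at e
  have e1 : cm t c = z * (cm r c')⁻¹ := by rw [e, mul_inv_cancel_right]
  have e2 : cm t c = 1 := (cm_eq_one_iff ht.sq).2 (ht.comm_of_eqv ht.e0 hc (by_contra fun l =>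
    n (H.inter hr ht (e1 ▸ mul_mem hr.z_mem_U (inv_mem u2)) u1 l)))
  rw [e2, one_mul] at e
  have := (cm_eq_one_iff hr.sq).2 (hr.comm_of_eqv hr.e0 hc' (Or.inr (by rw [← e, mul_one])))
  exact hr.big.ne_one (e.trans this)

theorem three_ne (hr : Sm z r) (ht : IsConj z t) (zt : Commute z t) (rt : Commute r t)
    (n : t ∉ Line z r) (hx : IsConj z x) (hy : IsConj z y) (hne : y ≠ x) (xy : Commute x y) :
    z * r * t ≠ x * y := by
  intro e
  have k := H.sm' hx hy hne xy
  have ht' := H.sm ⟨ht, fun l => n (l ▸ left_mem_Line t r), zt⟩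
  have n' : t * r ∉ QQ z := fun l => n (mem_line hr ht' l)
  have c : ∀ w, IsConj z w → Commute (z * r * t) w → Commute x w ∧ Commute y w := fun w hw l => by
    have l1 := (H.of_isConj hx).commute_of_mul k (hx.symm.trans hw) (e ▸ l)
    refine ⟨l1, ?_⟩
    have := l1.mul_left (e ▸ l)
    rwa [← mul_assoc, k.big.sq, one_mul] at this
  have cz := c z (IsConj.refl z) (((Commute.refl z).mul_left hr.comm.symm).mul_left zt.symm)
  have cr := c r hr.nb.1 ((hr.comm.mul_left (Commute.refl r)).mul_left rt.symm)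
  have T : ∀ w, IsConj z w → w ≠ z → Commute w z → z * r * t ≠ z * w := fun w h1 h2 h3 l =>
    H.tri hr.nb ht'.nb ⟨h1, h2, h3.symm⟩ (by
      rw [mul_assoc z, mul_right_inj] at l
      rw [l, hr.sq_conj h1]; exact one_mem _)
  have xz : x ≠ z := by rintro rfl; exact T y hy hne xy.symm e
  have yz : y ≠ z := by rintro rfl; exact T x hx xz xy (e.trans xy.eq)
  have hx' := H.sm ⟨hx, xz, cz.1.symm⟩
  have hy' := H.sm ⟨hy, yz, cz.2.symm⟩
  rcases H.four hr ht' hx' hy' xy (by
    rw [← e, mul_assoc z, mul_assoc, mul_assoc, ← pow_two, rt.mul_pow, pow_two, pow_two, hr.sq,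
      ht'.sq, mul_one, mul_one]; exact hr.big.z_mem) with l | l | l
  exacts [n' l, H.three_aux hr ht' hx' hy' rt n' e cr.1.symm l,
    H.three_aux hr ht' hy' hx' rt n' (e.trans xy.eq) cr.2.symm l]

theorem comm_of_even (h : Sm z a) (hs : IsConj z s) (ht : IsConj z t)
    (he : Even (orderOf (s * t))) : Commute t s := by
  obtain ⟨w, w1, -, c1, c2, k⟩ := dih_even (h.sq_conj hs) (h.sq_conj ht) he
  have k' : IsConj z (t * w) := k.elim (fun k => ht.trans k.2) fun k => hs.trans k.2
  exact (H.of_isConj ht).commute_of_mul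
    (H.sm' ht k' (fun e => w1 (mul_eq_left.1 e)) ((Commute.refl t).mul_right c2))
    (ht.symm.trans hs) (by rw [← mul_assoc, h.sq_conj ht, one_mul]; exact c1.symm)

omit H in
/-- An element `z a` moving `s` along a line through a common neighbour off the line of `z`, `a`. -/
theorem swap_case {o : G} (H : AllS o) (hz : Sm o z) (ha : Sm o a) (hs : Sm o s) (c : Commute z a)
    (n : a * z ∉ QQ o) (k : cj (z * a) s * s ∈ QQ o) : Commute s z := by
  by_contra n'
  obtain ⟨v, hv, v1⟩ := exists_U hs.toPW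
  have vq := hs.U_le hv
  have cu := hz.comm.mul_right ha.comm
  have u1 := hz.cm_mem_U vq
  have u2 := ha.cm_mem_U vq
  have c2 := H.cent_U ha hz c.symm u2
  have e : cm z v * cm a v = v * cj (z * a) v⁻¹ := by
    rw [← cj_of_commute c2, cm_eq z v hz.sq, cm_eq a v ha.sq, ← cj_cj]
    simp only [cj_mul, cj_inv, mul_assoc, inv_mul_cancel_left]
  have l := H.nd hs hz n' (e ▸ mul_mem hv (U_le_of_mul hs.toPW (hs.cjz cu).toPW k
    (hs.cj_U cu (inv_mem hv)))) ((hz.U_A hz.e0 u1).mul_right c2)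
  have l' := l.mul_right (cm a v)⁻¹
  rw [mul_inv_cancel_right, one_mul] at l'
  exact v1 (H.nd hs hz n' hv (hz.comm_of_eqv hz.e0 vq (by_contra fun m =>
    n (H.inter hz ha u1 (ha.U_eqv l' (inv_mem u2)) m))))

/-- Any two conjugates of `z` have a common neighbour. -/
theorem exists_common (h : Sm z a) (hs : IsConj z s) : ∃ p ∈ Line z a, Commute p s := by
  by_contra hn
  push Not at hn
  have ss := h.sq_conj hs
  have zz := h.big.sq
  have aa := h.sq
  have nz := hn z (left_mem_Line z a)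
  have uu : z * a * (z * a) = 1 := by
    rw [← pow_two, h.comm.mul_pow, pow_two, pow_two, zz, aa, one_mul]
  have ml : ∀ p, IsConj z p → Commute (z * a) p → Commute z p ∧ Commute a p := fun p h1 h2 => by
    have c := H.commute_of_mul h h1 h2
    have := c.mul_left h2
    rw [← mul_assoc, zz, one_mul] at this
    exact ⟨c, this⟩
  rcases Nat.even_or_odd (orderOf (s * (z * a))) with he | ho
  swap
  · obtain ⟨g, e, -⟩ := dih_odd ss uu ho
    exact absurd (hs.trans (e ▸ LX.isConj_cj g s)) h.not_isConj_mul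
  obtain ⟨w, w1, ww, c1, c2, ⟨k, -⟩ | ⟨-, k⟩⟩ := dih_even ss uu he
  · have h' := H.sm' hs (hs.trans k) (fun e => w1 (mul_eq_left.1 e)) ((Commute.refl s).mul_right c1)
    rcases (H.of_isConj hs).cent_mul h' (g := z * a)
      (by rw [← mul_assoc, ss, one_mul]; exact c2.symm) with e | e
    · exact nz (ml s hs (cj_eq_self_iff.1 e)).1
    obtain ⟨o, ho, e'⟩ := exists_fixed h' uu e
    have d := hs.trans (h'.isConj_of_line ho)
    have os := h'.comm_line _ ho _ (left_mem_Line _ _)
    obtain ⟨oz, oa⟩ := ml o d (cj_eq_self_iff.1 e')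
    have no : o ∉ Line z a := fun l => hn o l os
    have n1 : o ≠ s := fun l => nz (l ▸ oz)
    have kz := H.sm' d (IsConj.refl z) (fun l => no (l ▸ left_mem_Line z a)) oz.symm
    have ka := H.sm' d h.nb.1 (fun l => no (l ▸ right_mem_Line z a)) oa.symm
    obtain ⟨ks, l⟩ := h'.pt ho (left_mem_Line _ _) n1
    refine nz (swap_case (H.of_isConj d) kz ka ks h.comm (fun m => no ?_) ?_).symm
    · rw [(kz.pt (right_mem_Line o z) (mem_line kz ka m) h.nb.2.1.symm).2]
      exact left_mem_Line o z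
    · exact mul_mem_of_line ks.toPW (by rw [l, e]; exact right_mem_Line _ _)
        fun m => n1 (cj_inj.1 (e'.trans m.symm))
  have ew : w = z * a * (z * a * w) := by rw [← mul_assoc, uu, one_mul]
  have dt := hs.trans k
  obtain ⟨tz, ta⟩ := ml _ dt ((Commute.refl _).mul_right c2)
  have wt : Commute w (z * a * w) := c2.symm.mul_right (Commute.refl w)
  generalize z * a * w = t at ew dt tz ta wt
  have tt := h.sq_conj dt
  have cp : ∀ {q r : G}, q ∈ Line z a → r ∈ Line z a → q ≠ r → ¬ Commute (q * r) s :=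
    fun hq hr hne c => hn _ hq ((H.of_isConj (h.isConj_of_line hq)).commute_of_mul
      (h.pt hq hr hne).1 ((h.isConj_of_line hq).symm.trans hs) c)
  by_cases hl : t ∈ Line z a
  · by_cases k1 : t = z
    · rw [k1, mul_assoc, ← h.comm.eq, ← mul_assoc, zz, one_mul] at ew
      exact hn a (right_mem_Line z a) (ew ▸ c1.symm)
    by_cases k2 : t = a
    · rw [k2, mul_assoc, aa, mul_one] at ew
      exact nz (ew ▸ c1.symm)
    obtain ⟨q, hq, r, hr, hne, e, -⟩ := exists_compl h hl k1 k2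
    exact cp hq hr hne (e ▸ ew ▸ c1.symm)
  obtain ⟨p, _, _, nd, hL, -⟩ := h.line
  simp only [List.nodup_cons, List.mem_cons, List.not_mem_nil, or_false, not_or] at nd
  have hp : p ∈ Line z a := by rw [hL]; simp
  have dp := h.isConj_of_line hp
  obtain ⟨q, hq, r, hr, hne, e, -⟩ := exists_compl h hp (Ne.symm nd.1.2.1) (Ne.symm nd.2.1.1)
  have e1 : w * t = z * a := by rw [ew, mul_assoc, tt, mul_one]
  obtain ⟨g, g1, g2⟩ := dih_odd ss tt (Nat.not_even_iff_odd.1 fun l =>
    nz (ml s hs (e1 ▸ c1.symm.mul_left (H.comm_of_even h hs dt l))).1)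
  obtain ⟨g', g3, g4⟩ := dih_odd ss (h.sq_conj dp) (Nat.not_even_iff_odd.1 fun l =>
    hn p hp (H.comm_of_even h hs dp l))
  have pt := H.commute_line h dt tz ta hp
  have pu : Commute p (z * a) := (h.comm_line _ hp _ (left_mem_Line z a)).mul_right
    (h.comm_line _ hp _ (right_mem_Line z a))
  have wp : Commute w p := ew ▸ (pu.mul_right pt).symm
  have dq := h.isConj_of_line hq
  obtain ⟨kq, l⟩ := h.pt hq hr hne
  refine (H.of_isConj dq).three_ne kq (dq.symm.trans dt) (H.commute_line h dt tz ta hq)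
    (H.commute_line h dt tz ta hr) (l ▸ hl) (dq.symm.trans (LX.isConj_cj (g' * g⁻¹) z))
    (dq.symm.trans (h.nb.1.trans (LX.isConj_cj (g' * g⁻¹) a)))
    (fun m => h.nb.2.1 (cj_inj.1 m)) (commute_cj.2 h.comm) ?_
  rw [← cj_mul, ← e1, cj_mul, ← cj_cj, ← cj_cj, ← g1, cj_inv_cj, g3, g1,
    cj_of_commute (g2 w c1.symm wt).inv_right.symm, cj_of_commute (g4 w c1.symm wp).symm, ← e,
    ew, mul_assoc (z * a) p, pt.eq, ← mul_assoc]

theorem order (h : Sm z a) (hs : IsConj z s) : (z * s) ^ 2 = 1 ∨ (z * s) ^ 3 = 1 := by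
  by_cases c : Commute z s
  · exact Or.inl (by rw [c.mul_pow, pow_two, pow_two, h.big.sq, h.sq_conj hs, one_mul])
  obtain ⟨p, hp, k⟩ := H.exists_common h hs
  have k1 : p ≠ z := fun e => c (e ▸ k)
  have h' := (h.pt hp (left_mem_Line z a) k1).1
  exact Or.inr ((H.of_isConj (h.isConj_of_line hp)).three h'.nb
    ⟨h'.nb.1.trans hs, fun e => c (e ▸ h'.comm.symm), k⟩ c)

end AllS

theorem AllS.tt (h : AllS z) (ha : a ∈ Nb z) : IsThreeTranspositionSet (conjugatesOf z) := by
  have k := h.sm ha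
  refine ⟨fun d hd => (k.big.of_isConj hd).es.orderOf_z, fun d hd e he => ?_⟩
  obtain ⟨g, rfl⟩ := LX.exists_cj hd
  have := h.order k (IsConj.trans he (LX.isConj_cj g⁻¹ e))
  rw [← cj_cj_inv g e, ← cj_mul, ← cj_pow, ← cj_pow]
  exact this.imp (fun k => by rw [k, cj_one_right]) fun k => by rw [k, cj_one_right]

theorem AllS.psu (h : AllS z) (ha : a ∈ Nb z) (hs : IsSimpleGroup (normalClosure ({z} : Set G)))
    {K : Type*} [Field K] [Fintype K] (hK : Fintype.card K = 4) :
    ∃ m, 4 ≤ m ∧ Nonempty (normalClosure ({z} : Set G) ≃* PSU m K 2) := by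
  classical
  have tt := h.tt ha
  have k := h.sm ha
  set M := normalClosure ({z} : Set G) with hM
  let D : Set M := M.subtype ⁻¹' conjugatesOf z
  let z' : M := ⟨z, mem_nc (IsConj.refl z)⟩
  let a' : M := ⟨a, mem_nc ha.1⟩
  have z1 : z' ≠ 1 := fun e => k.big.ne_one (congrArg Subtype.val e)
  have hZ : center M = ⊥ := (inferInstance : (center M).Normal).eq_bot_or_eq_top.resolve_right
    fun e => by
      have hN : (zpowers z').Normal := ⟨fun n hn x => by
        rwa [mem_center_iff.1 (e ▸ mem_top n) x, mul_inv_cancel_right]⟩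
      have : a' ∈ zpowers z' :=
        (hN.eq_bot_or_eq_top.resolve_left (mt zpowers_eq_bot.1 z1)).symm ▸ mem_top _
      rcases (mem_zpowers_iff_of_sq (Subtype.ext k.big.sq)).1 this with l | l
      exacts [k.symm.big.ne_one (congrArg Subtype.val l), ha.2.1 (congrArg Subtype.val l)]
  have ttD : IsThreeTranspositionSet D := tt.preimage _ (subtype_injective M)
  have hz' : z' ∈ D := IsConj.refl z
  have top : closure (conjugatesOf z') = ⊤ := by
    have hN := normal_closure_of_cj (S := conjugatesOf z') fun g s hs =>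
      IsConj.trans hs (LX.isConj_cj g s)
    refine hN.eq_bot_or_eq_top.resolve_left fun e => z1 ?_
    have : z' ∈ closure (conjugatesOf z') := subset_closure (IsConj.refl z')
    rwa [e] at this
  have sub : conjugatesOf z' ⊆ D := fun x hx => M.subtype.map_isConj hx
  have eD : D = conjugatesOf z' := by
    refine Set.Subset.antisymm (fun d hd => ?_) sub
    by_contra hn
    have := mem_center_of_commute top (x := d) fun e he => by
      by_contra c
      refine hn (IsConj.trans he ?_)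
      exact (ttD.cj_mul_left (sub he) hd fun k => c k.symm) ▸ LX.isConj_cj _ e
    rw [hZ] at this
    exact ttD.ne_one hd this
  have cls : IsThreeTranspositionClass D := ⟨ttD, ⟨z', hz', eD⟩, eD ▸ top⟩
  have fis : Fis D := by
    obtain ⟨y, n⟩ : ∃ y : M, y * z' ≠ z' * y := by
      by_contra l
      push Not at l
      exact z1 (mem_bot.1 (hZ ▸ mem_center_iff.2 l))
    have e : commutator M = ⊤ := (inferInstance : (commutator M).Normal).eq_bot_or_eq_top.resolve_left
      fun e => by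
        have := commutator_mem_commutator (mem_top y) (mem_top z')
        rw [← commutator_def, e] at this
        exact n (commutatorElement_eq_one_iff_commute.1 this)
    refine fis_of_simple_commutator cls ?_ ?_ <;> rw [e]
    · exact topEquiv.isSimpleGroup
    · exact ⟨⟨y, trivial⟩, ⟨z', trivial⟩, fun l => n (congrArg Subtype.val l)⟩
  have ha' : a' ∈ Dx D z' := ⟨ha.1, fun e => ha.2.1 (congrArg Subtype.val e), commute_coe.1 ha.2.2⟩
  have pl : ∀ x (hx : x ∈ Line z a), (⟨x, mem_nc (k.isConj_of_line hx)⟩ : M) ∈ PL D z' a' :=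
    fun x hx => ⟨k.isConj_of_line hx, fun y hy h1 h2 => commute_coe.1
      (h.commute_line k hy (commute_coe.2 h1) (commute_coe.2 h2) hx)⟩
  obtain ⟨p, q, r, nd, hL, -⟩ := k.line
  simp only [List.nodup_cons, List.mem_cons, List.not_mem_nil, or_false, not_or] at nd
  have hp := pl p (by rw [hL]; simp)
  have hq := pl q (by rw [hL]; simp)
  have pol : Pol D := ⟨fis, z', hz', a', ha', _, hp, fun e => nd.1.2.1 (congrArg Subtype.val e).symm,
    fun e => nd.2.1.1 (congrArg Subtype.val e).symm⟩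
  obtain ⟨m, ρ, hm, hρ⟩ := pol.exists_uRep (pol.three_or_five.resolve_left fun l => by
    have h3 := l _ (ln_PL hz' ha'.1 ha'.2.1.symm ha'.2.2)
    have := (Set.three_lt_ncard (Set.toFinite _)).2 ⟨_, left_mem_PL hz' a', _, right_mem_PL z' ha'.1,
      _, hp, _, hq, ha'.2.1.symm, fun e => nd.1.2.1 (congrArg Subtype.val e),
      fun e => nd.1.2.2.1 (congrArg Subtype.val e), fun e => nd.2.1.1 (congrArg Subtype.val e),
      fun e => nd.2.1.2.1 (congrArg Subtype.val e), fun e => nd.2.2.1.1 (congrArg Subtype.val e)⟩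
    omega)
  obtain ⟨e, -⟩ := hρ.exists_equiv card_GF4 cls.group hZ hm
  exact ⟨m, hm, ⟨e.trans (psuMapEquiv m 2 (FiniteField.ringEquivOfCardEq (card_GF4.trans hK.symm)))⟩⟩

end Cfsg.Agent.Wk
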